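import Mathlib

/-!
# `2`-groups with an abelian subgroup of index two (helper358)
-/

set_option autoImplicit false

namespace Cfsg.Agent.H358.Fus

variable {G : Type*} [Group G]

/-- The centre of the subgroup `S`, as a subgroup of `G`. -/
def cen (S : Subgroup G) : Subgroup G := S ⊓ Subgroup.centralizer (S : Set G)

theorem mem_cen {S : Subgroup G} {z : G} : z ∈ cen S ↔ z ∈ S ∧ ∀ s ∈ S, s * z = z * s := by
  simp [cen, Subgroup.mem_inf, Subgroup.mem_centralizer_iff]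

theorem cen_le (S : Subgroup G) : cen S ≤ S := inf_le_left

/-- `T` is an abelian subgroup of index two of the nonabelian subgroup `S`. -/
structure Ab2 (S T : Subgroup G) : Prop where
  le : T ≤ S
  mul : ∀ x ∈ S, ∀ y ∈ S, x ∉ T → y ∉ T → x * y ∈ T
  ne : ∃ x ∈ S, x ∉ T
  comm : ∀ a ∈ T, ∀ b ∈ T, a * b = b * a
  na : ∃ a ∈ S, ∃ b ∈ S, a * b ≠ b * a

namespace Ab2

variable {S T : Subgroup G} (h : Ab2 S T)
include h

theorem conj_mem {s t : G} (hs : s ∈ S) (ht : t ∈ T) : s * t * s⁻¹ ∈ T := by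
  by_cases hsT : s ∈ T
  · exact T.mul_mem (T.mul_mem hsT ht) (T.inv_mem hsT)
  · apply h.mul _ (S.mul_mem hs (h.le ht)) _ (S.inv_mem hs)
    · intro h1
      exact hsT (by simpa using T.mul_mem h1 (T.inv_mem ht))
    · intro h1
      exact hsT (by simpa using T.inv_mem h1)

theorem conj_mem' {s t : G} (hs : s ∈ S) (ht : t ∈ T) : s⁻¹ * t * s ∈ T := by
  simpa using h.conj_mem (S.inv_mem hs) ht

theorem inv_mul_mem {x y : G} (hx : x ∈ S) (hxT : x ∉ T) (hy : y ∈ S) (hyT : y ∉ T) : x⁻¹ * y ∈ T := by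
  apply h.mul _ (S.inv_mem hx) _ hy _ hyT
  intro h1
  exact hxT (by simpa using T.inv_mem h1)

theorem conj_eq {x y t : G} (hx : x ∈ S) (hxT : x ∉ T) (hy : y ∈ S) (hyT : y ∉ T) (ht : t ∈ T) :
    x * t * x⁻¹ = y * t * y⁻¹ := by
  have h1 : x⁻¹ * y ∈ T := h.inv_mul_mem hx hxT hy hyT
  have h2 := h.comm _ h1 _ ht
  have : y = x * (x⁻¹ * y) := by group
  calc x * t * x⁻¹ = x * (t * (x⁻¹ * y)) * (x⁻¹ * y)⁻¹ * x⁻¹ := by group
    _ = x * ((x⁻¹ * y) * t) * (x⁻¹ * y)⁻¹ * x⁻¹ := by rw [h2]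
    _ = y * t * y⁻¹ := by group

theorem mem_cen_of_comm {t y : G} (ht : t ∈ T) (hy : y ∈ S) (hyT : y ∉ T) (hc : y * t = t * y) :
    t ∈ cen S := by
  rw [mem_cen]
  refine ⟨h.le ht, fun s hs => ?_⟩
  by_cases hsT : s ∈ T
  · exact h.comm _ hsT _ ht
  · have := h.conj_eq hs hsT hy hyT ht
    have h2 : y * t * y⁻¹ = t := by rw [hc]; group
    rw [h2] at this
    calc s * t = s * t * s⁻¹ * s := by group
      _ = t * s := by rw [this]

theorem cen_le : cen S ≤ T := by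
  intro z hz
  by_contra hzT
  rw [mem_cen] at hz
  obtain ⟨a, ha, b, hb, hab⟩ := h.na
  apply hab
  have key : ∀ s ∈ S, ∃ t ∈ T, s = t ∨ s = z * t := by
    intro s hs
    by_cases hsT : s ∈ T
    · exact ⟨s, hsT, Or.inl rfl⟩
    · exact ⟨z⁻¹ * s, h.inv_mul_mem hz.1 hzT hs hsT, Or.inr (by group)⟩
  obtain ⟨t1, ht1, e1⟩ := key a ha
  obtain ⟨t2, ht2, e2⟩ := key b hb
  have c0 := h.comm _ ht1 _ ht2
  have c1 := hz.2 _ (h.le ht1)
  have c2 := hz.2 _ (h.le ht2)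
  rcases e1 with rfl | rfl <;> rcases e2 with rfl | rfl
  · exact c0
  · calc a * (z * t2) = (a * z) * t2 := by group
      _ = z * (a * t2) := by rw [c1]; group
      _ = z * t2 * a := by rw [c0]; group
  · calc z * t1 * b = z * (t1 * b) := by group
      _ = (z * b) * t1 := by rw [c0]; group
      _ = b * (z * t1) := by rw [← c2]; group
  · calc z * t1 * (z * t2) = z * (t1 * z) * t2 := by group
      _ = z * z * (t1 * t2) := by rw [c1]; group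
      _ = z * (z * t2) * t1 := by rw [c0]; group
      _ = z * (t2 * z) * t1 := by rw [c2]
      _ = z * t2 * (z * t1) := by simp only [mul_assoc]

theorem sq_mem {y : G} (hy : y ∈ S) (hyT : y ∉ T) : y * y ∈ cen S :=
  h.mem_cen_of_comm (h.mul _ hy _ hy hyT hyT) hy hyT (by group)

theorem cs_cases {y s : G} (hy : y ∈ S) (hyT : y ∉ T) (hs : s ∈ S) (hc : s * y = y * s) :
    s ∈ cen S ∨ (s ∉ T ∧ y⁻¹ * s ∈ cen S) := by
  by_cases hsT : s ∈ T
  · left; exact h.mem_cen_of_comm hsT hy hyT hc.symm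
  · right
    refine ⟨hsT, h.mem_cen_of_comm (h.inv_mul_mem hy hyT hs hsT) hy hyT ?_⟩
    calc y * (y⁻¹ * s) = y⁻¹ * (y * s) := by group
      _ = y⁻¹ * s * y := by rw [← hc]; group

end Ab2

/-- Everything we know when moreover `T / Z(S)` is cyclic. -/
structure Dat (S T : Subgroup G) (t₀ z₀ : G) : Prop extends Ab2 S T where
  two : IsPGroup 2 S
  t₀_mem : t₀ ∈ T
  z₀_cen : z₀ ∈ cen S
  z₀_ne : z₀ ≠ 1
  z₀_sq : z₀ * z₀ = 1
  conj_t₀ : ∀ y ∈ S, y ∉ T → y * t₀ * y⁻¹ = t₀ * z₀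
  t₀_sq : t₀ * t₀ ∈ cen S
  sub : ∀ t ∈ T, ∀ y ∈ S, y ∉ T → y * t * y⁻¹ * t⁻¹ ∈ cen S → t ∈ cen S ∨ t₀⁻¹ * t ∈ cen S

theorem Ab2.exists_dat {S T : Subgroup G} (h : Ab2 S T) (h2 : IsPGroup 2 S) {a : G} (ha : a ∈ T)
    (hcyc : ∀ t ∈ T, ∃ k : ℕ, ∃ z ∈ cen S, t = a ^ k * z) :
    ∃ k : ℕ, 0 < k ∧ a ^ 2 ^ k ∈ cen S ∧ a ^ 2 ^ (k - 1) ∉ cen S ∧
      ∃ z₀, Dat S T (a ^ 2 ^ (k - 1)) z₀ := by
  classical
  have hex : ∃ k : ℕ, a ^ 2 ^ k ∈ cen S := by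
    obtain ⟨k, hk⟩ := h2 ⟨a, h.le ha⟩
    refine ⟨k, ?_⟩
    have : a ^ 2 ^ k = 1 := by simpa using congrArg Subtype.val hk
    rw [this]; exact one_mem _
  have hk0 : 0 < Nat.find hex := by
    rw [Nat.pos_iff_ne_zero]
    intro h0
    have h1 := Nat.find_spec hex
    rw [h0, pow_zero, pow_one] at h1
    obtain ⟨x, hx, y, hy, hxy⟩ := h.na
    apply hxy
    have hT : ∀ t ∈ T, t ∈ cen S := by
      intro t ht
      obtain ⟨k, z, hz, rfl⟩ := hcyc t ht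
      exact mul_mem (pow_mem h1 _) hz
    by_cases hyT : y ∈ T
    · exact (mem_cen.1 (hT y hyT)).2 x hx
    · by_cases hxT : x ∈ T
      · exact ((mem_cen.1 (hT x hxT)).2 y hy).symm
      · have h3 := (mem_cen.1 (hT _ (h.inv_mul_mem hx hxT hy hyT))).2 x hx
        calc x * y = x * (x * (x⁻¹ * y)) := by group
          _ = x * (x⁻¹ * y * x) := by rw [h3]
          _ = y * x := by group
  set k := Nat.find hex with hk
  have hkm : a ^ 2 ^ (k - 1) ∉ cen S := Nat.find_min hex (by omega)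
  have hks : a ^ 2 ^ k ∈ cen S := Nat.find_spec hex
  obtain ⟨t₀, ht₀⟩ : ∃ t₀, t₀ = a ^ 2 ^ (k - 1) := ⟨_, rfl⟩
  rw [← ht₀] at hkm
  have ht0T : t₀ ∈ T := by rw [ht₀]; exact pow_mem ha _
  have ht0sq : t₀ * t₀ ∈ cen S := by
    have : t₀ * t₀ = a ^ 2 ^ k := by
      rw [ht₀, ← pow_add]
      congr 1
      have : 2 ^ k = 2 ^ (k - 1 + 1) := by congr 1; omega
      rw [this, pow_succ]; ring
    rw [this]; exact hks
  obtain ⟨x, hx, hxT⟩ := h.ne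
  -- inversion
  have hinv : ∀ t ∈ T, x * (x * t * x⁻¹ * t⁻¹) * x⁻¹ = (x * t * x⁻¹ * t⁻¹)⁻¹ := by
    intro t ht
    have h1 := h.conj_mem hx ht
    have hxx : x * x ∈ T := h.mul x hx x hx hxT hxT
    have e1 : x * (x * t * x⁻¹ * t⁻¹) * x⁻¹ = (x * x) * t * (x * x)⁻¹ * (x * t * x⁻¹)⁻¹ := by group
    rw [e1, h.comm _ hxx _ ht]
    have h3 := h.comm _ ht _ (T.inv_mem h1)
    calc t * (x * x) * (x * x)⁻¹ * (x * t * x⁻¹)⁻¹ = t * (x * t * x⁻¹)⁻¹ := by group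
      _ = (x * t * x⁻¹ * t⁻¹)⁻¹ := by group
  have hcomT : ∀ t ∈ T, x * t * x⁻¹ * t⁻¹ ∈ T := fun t ht => T.mul_mem (h.conj_mem hx ht) (T.inv_mem ht)
  -- multiplicativity
  have hτ : ∀ s ∈ T, ∀ t ∈ T, x * (s * t) * x⁻¹ * (s * t)⁻¹ = (x * s * x⁻¹ * s⁻¹) * (x * t * x⁻¹ * t⁻¹) := by
    intro s hs t ht
    have h1 := h.comm _ (T.inv_mem hs) _ (hcomT t ht)
    calc x * (s * t) * x⁻¹ * (s * t)⁻¹ = (x * s * x⁻¹) * ((x * t * x⁻¹ * t⁻¹) * s⁻¹) := by group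
      _ = (x * s * x⁻¹) * (s⁻¹ * (x * t * x⁻¹ * t⁻¹)) := by rw [h1]
      _ = _ := by group
  have hker : ∀ t ∈ T, x * t * x⁻¹ * t⁻¹ = 1 → t ∈ cen S := by
    intro t ht h1
    apply h.mem_cen_of_comm ht hx hxT
    have : x * t * x⁻¹ = t := mul_inv_eq_one.1 h1
    calc x * t = x * t * x⁻¹ * x := by group
      _ = t * x := by rw [this]
  have hker' : ∀ t ∈ cen S, x * t * x⁻¹ * t⁻¹ = 1 := by
    intro t ht
    rw [(mem_cen.1 ht).2 x hx]; group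
  have hcin : ∀ t ∈ T, x * t * x⁻¹ * t⁻¹ ∈ cen S → t * t ∈ cen S := by
    intro t ht hc
    apply hker _ (T.mul_mem ht ht)
    rw [hτ t ht t ht]
    have h1 := hinv t ht
    have h3 : x * (x * t * x⁻¹ * t⁻¹) * x⁻¹ = x * t * x⁻¹ * t⁻¹ := by
      rw [(mem_cen.1 hc).2 x hx]; group
    rw [h3] at h1
    nth_rewrite 1 [h1]
    group
  have hsub : ∀ t ∈ T, x * t * x⁻¹ * t⁻¹ ∈ cen S → t ∈ cen S ∨ t₀⁻¹ * t ∈ cen S := by
    intro t ht hc
    have h3 := hcin t ht hc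
    obtain ⟨j, z, hz, rfl⟩ := hcyc t ht
    have h4 : a ^ (2 * j) ∈ cen S := by
      have e : a ^ j * z * (a ^ j * z) = a ^ (2 * j) * (z * z) := by
        have hz' := (mem_cen.1 hz).2 (a ^ j) (pow_mem (h.le ha) _)
        calc a ^ j * z * (a ^ j * z) = a ^ j * (z * a ^ j) * z := by group
          _ = a ^ j * (a ^ j * z) * z := by rw [← hz']
          _ = a ^ (2 * j) * (z * z) := by rw [two_mul, pow_add]; group
      rw [e] at h3
      have h5 := mul_mem h3 (inv_mem (mul_mem hz hz))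
      rwa [mul_inv_cancel_right] at h5
    -- `2 ^ k ∣ 2 * j`
    have hdvd : 2 ^ (k - 1) ∣ j := by
      by_contra hnd
      -- gcd argument
      have hg : a ^ Nat.gcd (2 ^ k) (2 * j) ∈ cen S := by
        have e := Nat.gcd_eq_gcd_ab (2 ^ k) (2 * j)
        have : a ^ Nat.gcd (2 ^ k) (2 * j) = (a ^ (2 ^ k)) ^ (Nat.gcdA (2 ^ k) (2 * j)) *
            (a ^ (2 * j)) ^ (Nat.gcdB (2 ^ k) (2 * j)) := by
          rw [← zpow_natCast a (Nat.gcd (2 ^ k) (2 * j)), e, zpow_add, zpow_mul, zpow_mul, zpow_natCast, zpow_natCast]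
        rw [this]
        exact mul_mem (zpow_mem hks _) (zpow_mem h4 _)
      obtain ⟨m, hm, hm'⟩ := (Nat.dvd_prime_pow Nat.prime_two).1 (Nat.gcd_dvd_left (2 ^ k) (2 * j))
      rw [hm'] at hg
      have hkm' : k ≤ m := by
        by_contra hlt
        exact Nat.find_min hex (not_le.1 hlt) hg
      have hmk : m = k := le_antisymm hm hkm'
      have h5 : 2 ^ k ∣ 2 * j := by
        rw [← hmk, ← hm']; exact Nat.gcd_dvd_right _ _
      have h6 : 2 ^ k = 2 * 2 ^ (k - 1) := by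
        rw [← pow_succ']; congr 1; omega
      rw [h6] at h5
      exact hnd (Nat.dvd_of_mul_dvd_mul_left two_pos h5)
    obtain ⟨i, rfl⟩ := hdvd
    rw [pow_mul, ← ht₀]
    rcases Nat.even_or_odd' i with ⟨c, rfl | rfl⟩
    · left
      rw [pow_mul]
      exact mul_mem (pow_mem (by rw [pow_two]; exact ht0sq) _) hz
    · right
      have : t₀⁻¹ * (t₀ ^ (2 * c + 1) * z) = (t₀ ^ 2) ^ c * z := by
        rw [← pow_mul, pow_succ', ← mul_assoc, ← mul_assoc, inv_mul_cancel, one_mul]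
      rw [this]
      exact mul_mem (pow_mem (by rw [pow_two]; exact ht0sq) _) hz
  refine ⟨k, hk0, hks, by rw [← ht₀]; exact hkm, t₀⁻¹ * (x * t₀ * x⁻¹), ?_⟩
  rw [← ht₀]
  have hz0T : t₀⁻¹ * (x * t₀ * x⁻¹) ∈ T := T.mul_mem (T.inv_mem ht0T) (h.conj_mem hx ht0T)
  have hz0eq : t₀⁻¹ * (x * t₀ * x⁻¹) = x * t₀ * x⁻¹ * t₀⁻¹ := h.comm _ (T.inv_mem ht0T) _ (h.conj_mem hx ht0T)
  have hz0sq : (x * t₀ * x⁻¹ * t₀⁻¹) * (x * t₀ * x⁻¹ * t₀⁻¹) = 1 := by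
    rw [← hτ t₀ ht0T t₀ ht0T]; exact hker' _ ht0sq
  have hz0c : x * t₀ * x⁻¹ * t₀⁻¹ ∈ cen S := by
    apply h.mem_cen_of_comm (hcomT _ ht0T) hx hxT
    have h1 := hinv t₀ ht0T
    have h3 : (x * t₀ * x⁻¹ * t₀⁻¹)⁻¹ = x * t₀ * x⁻¹ * t₀⁻¹ := inv_eq_of_mul_eq_one_left hz0sq
    rw [h3] at h1
    calc x * (x * t₀ * x⁻¹ * t₀⁻¹) = x * (x * t₀ * x⁻¹ * t₀⁻¹) * x⁻¹ * x := by group
      _ = _ := by rw [h1]
  exact
    { toAb2 := h
      two := h2
      t₀_mem := ht0T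
      z₀_cen := by rw [hz0eq]; exact hz0c
      z₀_ne := by
        rw [hz0eq]; intro h1; exact hkm (hker _ ht0T h1)
      z₀_sq := by rw [hz0eq]; exact hz0sq
      conj_t₀ := by
        intro y hy hyT
        rw [h.conj_eq hy hyT hx hxT ht0T, mul_inv_cancel_left]
      t₀_sq := ht0sq
      sub := by
        intro t ht y hy hyT hc
        rw [h.conj_eq hy hyT hx hxT ht] at hc
        exact hsub t ht hc }

end Cfsg.Agent.H358.Fus
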