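import Cfsg.Agent.H358.L2Deg
import Cfsg.Agent.S0252
import Cfsg.Agent.S0253
import Cfsg.Agent.S0254
import Cfsg.Agent.S0713
import Cfsg.Prelude.Def_Classical

/-!
# Small groups (helper358)
-/

set_option autoImplicit false
set_option linter.unusedSectionVars false

namespace Cfsg.Agent.H358.Perm

open MulAction Matrix

/-- The conclusion of the theorem. -/
def Concl (M : Type*) [Group M] (n : ℕ) : Prop :=
  (n = 6 ∧ Nonempty (M ≃* ↥(alternatingGroup (Fin 6)))) ∨
  (∃ (F : Type) (_ : Field F) (_ : Fintype F), 4 ≤ Fintype.card F ∧ n = Fintype.card F + 1 ∧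
    Nonempty (M ≃* Matrix.ProjectiveSpecialLinearGroup (Fin 2) F)) ∨
  (∃ (F : Type) (_ : Field F) (_ : Fintype F) (q : ℕ), Fintype.card F = q ^ 2 ∧ 2 < q ∧
    n = q ^ 3 + 1 ∧ Nonempty (M ≃* Cfsg.PSU 3 F q))

theorem Act.comp {G M : Type*} [Group G] [Group M] {Ω : Type*} [MulAction M Ω] (h : Act M Ω) (f : G →* M)
    (hf : Function.Surjective f) : @Act G Ω _ (MulAction.compHom Ω f) := by
  let _ := MulAction.compHom Ω f
  refine ⟨?_, h.mod⟩
  rw [is_two_pretransitive_iff]
  intro a b c d hab hcd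
  obtain ⟨m, h2, h3⟩ := is_two_pretransitive_iff.1 h.two hab hcd
  obtain ⟨g, rfl⟩ := hf m
  exact ⟨g, h2, h3⟩

section

variable {M : Type*} [Group M] [Finite M] {Ω : Type*} [MulAction M Ω] [Finite Ω]

theorem ident_psl2 (h : Act M Ω) (hn2 : 2 < Nat.card Ω) {F : Type} [Field F] [Fintype F]
    (e : M ≃* Matrix.ProjectiveSpecialLinearGroup (Fin 2) F) : Concl M (Nat.card Ω) := by
  have h1 : @Act (Matrix.ProjectiveSpecialLinearGroup (Fin 2) F) Ω _
      (MulAction.compHom Ω e.symm.toMonoidHom) := h.comp e.symm.toMonoidHom e.symm.surjective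
  let _ := MulAction.compHom Ω e.symm.toMonoidHom
  have hmod := h.mod
  rcases psl2_degree h1 hn2 with h2 | ⟨h2, h3⟩ | ⟨h2, h3⟩
  · right; left
    exact ⟨F, inferInstance, inferInstance, by omega, h2, ⟨e⟩⟩
  · left
    obtain ⟨e'⟩ := Cfsg.Agent.S0254.result h2
    exact ⟨h3, ⟨e.trans e'⟩⟩
  · right; left
    have : Fact (Nat.Prime 5) := ⟨by norm_num⟩
    obtain ⟨e1⟩ := Cfsg.Agent.S0252.result h2
    obtain ⟨e2⟩ := Cfsg.Agent.S0253.result (F := ZMod 5) (ZMod.card 5)
    exact ⟨ZMod 5, inferInstance, inferInstance, by rw [ZMod.card]; norm_num, by rw [ZMod.card, h3],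
      ⟨(e.trans e1).trans e2.symm⟩⟩

theorem Act.card_eq (h : Act M Ω) (hn2 : 2 < Nat.card Ω) :
    ∃ a b : Ω, a ≠ b ∧ Nat.card M = Nat.card Ω * Nat.card (stabilizer M a) ∧
      Nat.card (stabilizer M a) = (Nat.card Ω - 1) * Nat.card ↥(stabilizer M a ⊓ stabilizer M b) := by
  have : Nontrivial Ω := by rw [← Finite.one_lt_card_iff_nontrivial]; omega
  obtain ⟨a, b, hab⟩ := exists_pair_ne Ω
  have := h.pre
  refine ⟨a, b, hab, ?_, h.card_two hab⟩
  rw [← Subgroup.index_mul_card (stabilizer M a), index_stabilizer_of_transitive]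

theorem Act.dvd (h : Act M Ω) (hn2 : 2 < Nat.card Ω) : Nat.card Ω * (Nat.card Ω - 1) ∣ Nat.card M := by
  obtain ⟨a, b, _, h1, h2⟩ := h.card_eq hn2
  exact ⟨_, by rw [h1, h2, mul_assoc]⟩

theorem dvd_factorial [FaithfulSMul M Ω] : Nat.card M ∣ (Nat.card Ω).factorial := by
  classical
  have := Fintype.ofFinite Ω
  have h1 : Nat.card (Equiv.Perm Ω) = (Nat.card Ω).factorial := by
    rw [Nat.card_eq_fintype_card, Fintype.card_perm, Nat.card_eq_fintype_card]
  rw [← h1]
  exact Subgroup.card_dvd_of_injective (MulAction.toPermHom M Ω) MulAction.toPerm_injective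

/-- An element of prime order `p` cannot move more than ... : Jordan's theorem. -/
theorem jordan [FaithfulSMul M Ω] (h : Act M Ω) {p : ℕ} (hp : p.Prime) (hp3 : 3 < p) (hpn : Nat.card Ω = p + 3)
    (hpM : p ∣ Nat.card M) : (p + 3).factorial ≤ 2 * Nat.card M := by
  classical
  have := Fintype.ofFinite Ω
  have := h.pre
  have hcard : Fintype.card Ω = p + 3 := by rw [← Nat.card_eq_fintype_card]; exact hpn
  have : Fact p.Prime := ⟨hp⟩
  obtain ⟨x, hx⟩ := exists_prime_orderOf_dvd_card' p hpM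
  set G := (MulAction.toPermHom M Ω).range with hG
  have hinj : Function.Injective (MulAction.toPermHom M Ω) := MulAction.toPerm_injective
  have ho : orderOf (MulAction.toPermHom M Ω x) = p := by
    rw [orderOf_injective _ hinj, hx]
  set g := MulAction.toPermHom M Ω x with hg
  have hsupp : g.support.card < 2 * orderOf g := by
    rw [ho]
    have : g.support.card ≤ Fintype.card Ω := Finset.card_le_univ _
    omega
  have hcyc : g.IsCycle := Equiv.Perm.isCycle_of_prime_order (by rw [ho]; exact hp) hsupp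
  have hsc : g.support.card = p := by rw [← ho, hcyc.orderOf]
  have h2 : IsMultiplyPretransitive G Ω 2 := by
    rw [is_two_pretransitive_iff]
    intro a b c d hab hcd
    obtain ⟨m, h2, h3⟩ := (is_two_pretransitive_iff.1 h.two) hab hcd
    exact ⟨⟨MulAction.toPermHom M Ω m, m, rfl⟩, h2, h3⟩
  have hprim : IsPreprimitive G Ω := isPreprimitive_of_is_two_pretransitive h2
  have h3 := Cfsg.Agent.S0713.result G hprim hp (by omega) (by omega) hcyc hsc ⟨x, rfl⟩
  have h4 : Nat.card (alternatingGroup Ω) ≤ Nat.card G := Subgroup.card_le_of_le h3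
  have : Nontrivial Ω := by rw [← Finite.one_lt_card_iff_nontrivial]; omega
  have h5 : 2 * Nat.card (alternatingGroup Ω) = (p + 3).factorial := by
    rw [Nat.card_eq_fintype_card, two_mul_card_alternatingGroup, Fintype.card_perm, hcard]
  have h6 : Nat.card G = Nat.card M := (Nat.card_congr (MonoidHom.ofInjective hinj).toEquiv).symm
  rw [← h5, ← h6]
  omega

theorem not_a7 [FaithfulSMul M Ω] (h : Act M Ω) (hn2 : 2 < Nat.card Ω) (hc : Nat.card M = 2520) : False := by
  have h1 := h.dvd hn2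
  have h2 := h.mod
  have h3 := dvd_factorial (M := M) (Ω := Ω)
  rw [hc] at h1 h3
  have hle : Nat.card Ω ≤ 50 := by
    by_contra hgt
    have h4 := Nat.le_of_dvd (by norm_num) h1
    have : 51 * 50 ≤ Nat.card Ω * (Nat.card Ω - 1) := Nat.mul_le_mul (by omega) (by omega)
    omega
  have key : ∀ n < 51, n % 4 = 2 → 2 < n → n * (n - 1) ∣ 2520 → n = 6 ∨ n = 10 := by decide +kernel
  rcases key _ (by omega) h2 hn2 h1 with h4 | h4
  · rw [h4] at h3
    revert h3; decide +kernel
  · have := jordan h (p := 7) (by norm_num) (by norm_num) h4 (by rw [hc]; norm_num)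
    rw [hc] at this
    revert this; decide +kernel

theorem not_m11 [FaithfulSMul M Ω] (h : Act M Ω) (hn2 : 2 < Nat.card Ω) (hc : Nat.card M = 7920) : False := by
  have h1 := h.dvd hn2
  have h2 := h.mod
  have h3 := dvd_factorial (M := M) (Ω := Ω)
  rw [hc] at h1 h3
  have hle : Nat.card Ω ≤ 100 := by
    by_contra hgt
    have h4 := Nat.le_of_dvd (by norm_num) h1
    have : 101 * 100 ≤ Nat.card Ω * (Nat.card Ω - 1) := Nat.mul_le_mul (by omega) (by omega)
    omega
  have key : ∀ n < 101, n % 4 = 2 → 2 < n → n * (n - 1) ∣ 7920 → n = 6 ∨ n = 10 := by decide +kernel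
  rcases key _ (by omega) h2 hn2 h1 with h4 | h4
  · rw [h4] at h3
    revert h3; decide +kernel
  · rw [h4] at h3
    revert h3; decide +kernel

theorem u34_degree [FaithfulSMul M Ω] (h : Act M Ω) (hn2 : 2 < Nat.card Ω) (hc : Nat.card M = 62400) :
    Nat.card Ω = 26 := by
  have h1 := h.dvd hn2
  have h2 := h.mod
  have h3 := dvd_factorial (M := M) (Ω := Ω)
  rw [hc] at h1 h3
  have hle : Nat.card Ω ≤ 250 := by
    by_contra hgt
    have h4 := Nat.le_of_dvd (by norm_num) h1
    have : 251 * 250 ≤ Nat.card Ω * (Nat.card Ω - 1) := Nat.mul_le_mul (by omega) (by omega)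
    omega
  have key : ∀ n < 251, n % 4 = 2 → 2 < n → n * (n - 1) ∣ 62400 → n = 6 ∨ n = 26 := by decide +kernel
  rcases key _ (by omega) h2 hn2 h1 with h4 | h4
  · exfalso
    rw [h4] at h3
    revert h3; decide +kernel
  · exact h4

theorem j1_degree [FaithfulSMul M Ω] (h : Act M Ω) (hn2 : 2 < Nat.card Ω) (hc : Nat.card M = 175560) :
    Nat.card Ω = 210 := by
  have h1 := h.dvd hn2
  have h2 := h.mod
  have h3 := dvd_factorial (M := M) (Ω := Ω)
  rw [hc] at h1 h3
  have hle : Nat.card Ω ≤ 419 := by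
    by_contra hgt
    have h4 := Nat.le_of_dvd (by norm_num) h1
    have : 420 * 419 ≤ Nat.card Ω * (Nat.card Ω - 1) := Nat.mul_le_mul (by omega) (by omega)
    omega
  have key : ∀ n < 420, n % 4 = 2 → 2 < n → n * (n - 1) ∣ 175560 → n = 6 ∨ n = 22 ∨ n = 210 := by decide +kernel
  rcases key _ (by omega) h2 hn2 h1 with h4 | h4 | h4
  · exfalso
    rw [h4] at h3
    revert h3; decide +kernel
  · exfalso
    have := jordan h (p := 19) (by norm_num) (by norm_num) h4 (by rw [hc]; norm_num)
    rw [hc] at this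
    revert this; decide +kernel
  · exact h4

end

end Cfsg.Agent.H358.Perm
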