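import Cfsg.Agent.H358.Loc
import Cfsg.Agent.H358.JOne
import Cfsg.Agent.H358.Small
import Cfsg.Agent.Walter.Main
import Cfsg.Agent.Walter.StepAll
import Cfsg.Agent.Walter.Final

/-!
# Abelian Sylow 2-subgroups (helper358)
-/

set_option autoImplicit false
set_option linter.unusedSectionVars false

namespace Cfsg.Agent.H358.Perm

open MulAction Pointwise
open Cfsg.Agent.H358.TwoTransMod4
open Cfsg.Agent.H358.Fus

theorem Act.of_surj {G K : Type*} [Group G] [Group K] {Ω : Type*} [MulAction G Ω] [MulAction K Ω] (h : Act K Ω)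
    (f : G → K) (hf : Function.Surjective f) (hc : ∀ g : G, ∀ x : Ω, f g • x = g • x) : Act G Ω := by
  refine ⟨?_, h.mod⟩
  rw [is_two_pretransitive_iff]
  intro a b c d hab hcd
  obtain ⟨m, h2, h3⟩ := is_two_pretransitive_iff.1 h.two hab hcd
  obtain ⟨g, rfl⟩ := hf m
  exact ⟨g, by rw [← hc]; exact h2, by rw [← hc]; exact h3⟩

theorem htwo : ∀ a b : Multiplicative (ZMod 2), a ≠ 1 → b ≠ 1 → a * b = 1 := by decide

variable {M : Type*} [Group M] [Finite M] {Ω : Type*} [MulAction M Ω] [Finite Ω]

theorem ident_abelian [IsSimpleGroup M] (hM : ¬ IsMulCommutative M) [FaithfulSMul M Ω] (h : Act M Ω)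
    (ab : Ab M Ω) (hn2 : 2 < Nat.card Ω) (S : Sylow 2 M) (hS : IsMulCommutative (S : Subgroup M)) :
    Concl M (Nat.card Ω) := by
  classical
  have f2 : Fact (Nat.Prime 2) := ⟨Nat.prime_two⟩
  have hcm := Walter.Main.comm_of_isMulCommutative hS
  have hw := Walter.Main.wType_of_step Walter.StepAll.step M inferInstance hM S hcm
  rcases Walter.Main.centralizer_of_wType hw with ⟨_, _, F, i1, i2, _, ⟨e⟩⟩ | ⟨F, i1, i2, _, _, ⟨e⟩⟩ | hJR
  · exact ident_psl2 h hn2 e
  · exact ident_psl2 h hn2 e
  exfalso
  obtain ⟨F, i1, i2, h35, h5, ⟨t, ht⟩, hc⟩ := hJR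
  obtain ⟨e⟩ := hc t ht
  have htt : t * t = 1 := by rw [← pow_two, ← ht]; exact pow_orderOf_eq_one t
  have ht1 : t ≠ 1 := by rintro rfl; rw [orderOf_one] at ht; omega
  set C := Subgroup.centralizer ({t} : Set M) with hC
  have hsimp : IsSimpleGroup (Matrix.ProjectiveSpecialLinearGroup (Fin 2) F) :=
    Matrix.ProjectiveSpecialLinearGroup.rank_two_simple (by rw [Nat.card_eq_fintype_card]; omega)
  have hna : ¬ IsMulCommutative (Matrix.ProjectiveSpecialLinearGroup (Fin 2) F) := by
    intro hcon
    exact Cfsg.Agent.ClassicalGeometry.PSL2Solvable.not_isSolvable_psl F (by omega)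
      (Group.isSolvable_of_comm fun a b => hcon.is_comm.comm a b)
  have hcen : Subgroup.center (Matrix.ProjectiveSpecialLinearGroup (Fin 2) F) = ⊥ := by
    rcases IsSimpleGroup.eq_bot_or_eq_top_of_normal
      (Subgroup.center (Matrix.ProjectiveSpecialLinearGroup (Fin 2) F)) inferInstance with h1 | h1
    · exact h1
    · exact absurd ⟨⟨fun a b => by
        have : a ∈ Subgroup.center (Matrix.ProjectiveSpecialLinearGroup (Fin 2) F) := by rw [h1]; trivial
        exact (Subgroup.mem_center_iff.1 this b).symm⟩⟩ hna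
  -- the component `K`
  set K : Subgroup C := (MonoidHom.fst (Multiplicative (ZMod 2))
    (Matrix.ProjectiveSpecialLinearGroup (Fin 2) F)).ker.comap e.toMonoidHom with hK
  have memK : ∀ k : C, k ∈ K ↔ (e k).1 = 1 := fun k => Iff.rfl
  have hKn : K.Normal := inferInstance
  -- the homomorphism onto `K`
  let r : Matrix.ProjectiveSpecialLinearGroup (Fin 2) F →* K :=
    { toFun := fun x => ⟨e.symm (1, x), by rw [memK, MulEquiv.apply_symm_apply]⟩
      map_one' := Subtype.ext (by
        change e.symm (1, 1) = 1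
        exact e.symm.map_one)
      map_mul' := fun x y => Subtype.ext (by
        change e.symm (1, x * y) = e.symm (1, x) * e.symm (1, y)
        rw [← map_mul, Prod.mk_mul_mk, one_mul]) }
  have hr : Function.Bijective r := by
    constructor
    · intro x y hxy
      have h1 : e.symm (1, x) = e.symm (1, y) := congrArg Subtype.val hxy
      have h2 := e.symm.injective h1
      exact congrArg Prod.snd h2
    · rintro ⟨k, hk⟩
      refine ⟨(e k).2, Subtype.ext ?_⟩
      change e.symm (1, (e k).2) = k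
      rw [memK] at hk
      rw [MulEquiv.symm_apply_eq, ← hk]
  let re : Matrix.ProjectiveSpecialLinearGroup (Fin 2) F ≃* K := MulEquiv.ofBijective r hr
  have hK2 : ∀ D : Subgroup K, D.index ≠ 2 := by
    intro D hD
    have h1 := no_index_two hna (D.comap re.toMonoidHom)
    apply h1
    rw [Subgroup.index_comap_of_surjective _ re.surjective, hD]
  have hfm := h.fix_invol hM htt
  have htC : t ∈ C := Subgroup.mem_centralizer_singleton_iff.2 rfl
  rcases h.loc_dich (fun _ => ab.cenV _) htt hfm K hK2 with htriv | ⟨hact, hf2⟩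
  · -- the centralizer fixes a point
    have hne : ({x : Ω | t • x = x} : Set Ω).Nonempty := by
      rw [← Set.ncard_pos]; omega
    obtain ⟨x, hx⟩ := hne
    have het : (e ⟨t, htC⟩).2 = 1 := by
      have : (e ⟨t, htC⟩).2 ∈ Subgroup.center (Matrix.ProjectiveSpecialLinearGroup (Fin 2) F) := by
        rw [Subgroup.mem_center_iff]
        intro y
        have h1 : ∀ w : C, w * ⟨t, htC⟩ = ⟨t, htC⟩ * w := fun w =>
          Subtype.ext (Subgroup.mem_centralizer_singleton_iff.1 w.2)
        have h2 := congrArg (fun w => (e w).2) (h1 (e.symm (1, y)))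
        simpa using h2
      rw [hcen, Subgroup.mem_bot] at this
      exact this
    have het1 : (e ⟨t, htC⟩).1 ≠ 1 := by
      intro h1
      apply ht1
      have h2 : e ⟨t, htC⟩ = 1 := Prod.ext h1 het
      rw [map_eq_one_iff _ e.injective] at h2
      exact congrArg Subtype.val h2
    have hle : C ≤ stabilizer M x := by
      intro g hg
      by_cases hgK : (⟨g, hg⟩ : C) ∈ K
      · exact htriv _ hgK x hx
      · have h1 : (⟨t, htC⟩ * ⟨g, hg⟩ : C) ∈ K := by
          rw [memK, map_mul, Prod.fst_mul]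
          exact htwo _ _ het1 (fun h2 => hgK ((memK _).2 h2))
        have h2 : (t * g) • x = x := htriv _ h1 x hx
        rw [mul_smul, smul_eq_iff_eq_inv_smul] at h2
        have h3 : t⁻¹ • x = x := by
          rw [inv_smul_eq_iff]; exact (hx : t • x = x).symm
        rw [h3] at h2
        exact h2
    -- Sylow
    have htS : ∃ P : Sylow 2 M, t ∈ (P : Subgroup M) := by
      obtain ⟨P, hP⟩ := (isPGroup_zpowers htt).exists_le_sylow
      exact ⟨P, hP (Subgroup.mem_zpowers t)⟩
    obtain ⟨P, hP⟩ := htS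
    have hPc := Walter.Main.all_comm hcm P
    have hPC : (P : Subgroup M) ≤ C := by
      intro y hy
      rw [Subgroup.mem_centralizer_singleton_iff]
      exact congrArg Subtype.val (hPc ⟨y, hy⟩ ⟨t, hP⟩)
    have h3 := (full_sylow P).le_fac (hPC.trans hle)
    rw [Subgroup.card_top, h.fac_top x] at h3
    omega
  · have h1 : @Act (Matrix.ProjectiveSpecialLinearGroup (Fin 2) F) (fixSub t Ω) _
        (MulAction.compHom (fixSub t Ω) re.toMonoidHom) := hact.comp re.toMonoidHom re.surjective
    let _ := MulAction.compHom (fixSub t Ω) re.toMonoidHom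
    have h2 := psl2_degree h1 (by rw [card_fixSub]; exact hf2)
    rw [card_fixSub] at h2
    rcases Walter.Final.centThm M (Walter.Main.all_comm hcm) F (by omega) t ht ⟨e⟩ with ⟨m, hm, hFm, -⟩ | ⟨-, hJ⟩
    · have h3 : 3 ^ (2 * m + 1) % 8 = 3 := by
        rw [pow_succ, pow_mul, Nat.mul_mod, Nat.pow_mod]
        norm_num
      omega
    · exact not_j1 hM h ab hn2 hJ.2

end Cfsg.Agent.H358.Perm
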