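import Cfsg.Agent.H358.Fus2
import Cfsg.Agent.S0111

/-!
# The central involutions (helper358)
-/

set_option autoImplicit false
set_option linter.unusedSectionVars false

namespace Cfsg.Agent.H358.Fus

open Cfsg.Agent.H358.TwoTransMod4

variable {G : Type*} [Group G]

theorem Ab2.norm_mem {S T : Subgroup G} (h : Ab2 S T) {t y : G} (ht : t ∈ T) (hy : y ∈ S) (hyT : y ∉ T) :
    y * t * y⁻¹ * t ∈ cen S := by
  have h1 := h.conj_mem hy ht
  apply h.mem_cen_of_comm (T.mul_mem h1 ht) hy hyT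
  have h2 := h.comm _ (h.mul _ hy _ hy hyT hyT) _ ht
  calc y * (y * t * y⁻¹ * t) = (y * y * t) * (y * y)⁻¹ * (y * t * y⁻¹) * y := by group
    _ = t * (y * t * y⁻¹) * y := by rw [h2]; group
    _ = y * t * y⁻¹ * t * y := by rw [h.comm _ ht _ h1]

theorem cs_mul_cen {S : Subgroup G} {e c : G} (hc : c ∈ cen S) : cs S (e * c) = cs S e := by
  ext s
  rw [mem_cs, mem_cs]
  refine and_congr_right fun hs => ?_
  have h1 := (mem_cen.1 hc).2 s hs
  constructor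
  · intro h2
    have h3 : s * e * c = e * s * c := by
      calc s * e * c = s * (e * c) := by group
        _ = e * (c * s) := by rw [h2]; group
        _ = e * s * c := by rw [← h1]; group
    exact mul_right_cancel h3
  · intro h2
    calc s * (e * c) = (s * e) * c := by group
      _ = e * (s * c) := by rw [h2]; group
      _ = e * c * s := by rw [h1]; group

namespace Exit

variable [Finite G] {S : Sylow 2 G} {T : Subgroup G} {t₀ z₀ : G}

/-- Exits of the same class have the same fixed subgroup. -/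
theorem fixed_eq (h : Dat (S : Subgroup G) T t₀ z₀) {a : G} (ha : a ∈ T) {v g y v' g' y' : G}
    (x : Exit (S : Subgroup G) T v g y) (x' : Exit (S : Subgroup G) T v' g' y') {j : ℤ} {z : G}
    (hz : z ∈ cen (S : Subgroup G)) (he : (g * z₀ * g⁻¹)⁻¹ * (g' * z₀ * g'⁻¹) = a ^ (2 * j) * z) :
    fixed S t₀ g = fixed S t₀ g' := by
  obtain ⟨e, hedef⟩ : ∃ e, e = g * z₀ * g⁻¹ := ⟨_, rfl⟩
  obtain ⟨e', hedef'⟩ : ∃ e', e' = g' * z₀ * g'⁻¹ := ⟨_, rfl⟩
  obtain ⟨h1, h2, h3, h4⟩ := x.gz_mem h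
  have haj : a ^ j ∈ T := zpow_mem ha j
  have hs : a ^ j ∈ (S : Subgroup G) := h.le haj
  have x'' := x'.smul h.toAb2 hs
  obtain ⟨k1, k2, k3, k4⟩ := x''.gz_mem h
  have hn := h.norm_mem haj h1 h2
  rw [← hedef] at hn
  obtain ⟨c, hc, hcc⟩ : ∃ c ∈ cen (S : Subgroup G), e * a ^ j * e⁻¹ * a ^ j = c := ⟨_, hn, rfl⟩
  have hcS := (mem_cen.1 hc).2
  have he' : e' = e * (a ^ (2 * j) * z) := by
    rw [← he, hedef, hedef']; group
  have heS : e ∈ (S : Subgroup G) := by rw [hedef]; exact h1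
  have haS : a ^ j ∈ (S : Subgroup G) := hs
  have h8 : e * (a ^ j)⁻¹ * e⁻¹ = a ^ j * c⁻¹ := by
    have h7 : e * a ^ j * e⁻¹ = c * (a ^ j)⁻¹ := by rw [← hcc]; group
    calc e * (a ^ j)⁻¹ * e⁻¹ = (e * a ^ j * e⁻¹)⁻¹ := by group
      _ = a ^ j * c⁻¹ := by rw [h7]; group
  have e2 : a ^ j * e = e * (a ^ j)⁻¹ * c := by
    have h9 : e * (a ^ j)⁻¹ = a ^ j * c⁻¹ * e := by rw [← h8]; group
    rw [h9]
    calc a ^ j * e = a ^ j * c⁻¹ * (c * e) := by group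
      _ = a ^ j * c⁻¹ * (e * c) := by rw [hcS e heS]
      _ = _ := by group
  have key : a ^ j * g' * z₀ * (a ^ j * g')⁻¹ = e * (c * z) := by
    have e1 : a ^ j * g' * z₀ * (a ^ j * g')⁻¹ = a ^ j * e' * (a ^ j)⁻¹ := by rw [hedef']; group
    have h10 := (mem_cen.1 hz).2 _ haS
    have h11 := hcS _ haS
    rw [e1, he']
    calc a ^ j * (e * (a ^ (2 * j) * z)) * (a ^ j)⁻¹ = a ^ j * e * (a ^ j * (a ^ j * z)) * (a ^ j)⁻¹ := by
          rw [two_mul, zpow_add]; group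
      _ = e * (a ^ j)⁻¹ * c * (a ^ j * (z * a ^ j)) * (a ^ j)⁻¹ := by rw [e2, h10]
      _ = e * (a ^ j)⁻¹ * (c * a ^ j) * z := by group
      _ = e * (a ^ j)⁻¹ * (a ^ j * c) * z := by rw [h11]
      _ = _ := by group
  have htar : cj (a ^ j * g') (cs (S : Subgroup G) y') = cj g (cs (S : Subgroup G) y) := by
    rw [k4, h4, key, ← hedef, cs_mul_cen (mul_mem hc hz)]
  have l1 := fixed_le h x'' x htar
  have l2 := fixed_le h x x'' htar.symm
  rw [fixed_smul hs] at l1 l2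
  exact le_antisymm l2 l1

end Exit

/-- If every central involution is fused outside `T`, then there is only one central involution. -/
theorem Dat.cen_invol [Finite G] (hno : ∀ M : Subgroup G, M.index ≠ 2) (S : Sylow 2 G) {T : Subgroup G}
    {t₀ z₀ : G} (h : Dat (S : Subgroup G) T t₀ z₀) {a : G} (ha : a ∈ T)
    (hcyc : ∀ t ∈ T, ∃ k : ℕ, ∃ z ∈ cen (S : Subgroup G), t = a ^ k * z)
    (hz : ∀ g, g * z₀ * g⁻¹ ∈ cen (S : Subgroup G) → g * z₀ * g⁻¹ = z₀)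
    (hexit : ∀ v ∈ cen (S : Subgroup G), v * v = 1 → v ≠ 1 → ∃ g y, Exit (S : Subgroup G) T v g y) :
    ∀ v ∈ cen (S : Subgroup G), v * v = 1 → v = 1 ∨ v = z₀ := by
  intro v hv hv2
  by_contra hcon
  push Not at hcon
  obtain ⟨hv1, hvz⟩ := hcon
  have hz0S := (mem_cen.1 h.z₀_cen).2
  have hinvz : ∀ c ∈ cen (S : Subgroup G), c * c = 1 → (c * z₀) * (c * z₀) = 1 := by
    intro c hc hc2
    calc c * z₀ * (c * z₀) = c * (z₀ * c) * z₀ := by group
      _ = c * (c * z₀) * z₀ := by rw [← hz0S c (cen_le _ hc)]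
      _ = (c * c) * (z₀ * z₀) := by group
      _ = 1 := by rw [hc2, h.z₀_sq, one_mul]
  obtain ⟨g₁, y₁, x₁⟩ := hexit z₀ h.z₀_cen h.z₀_sq h.z₀_ne
  obtain ⟨m₁, m₁T, m₁2, -⟩ := x₁.gz_mem h
  -- an exit of the other class
  have hodd : ∃ v₂ g₂ y₂, Exit (S : Subgroup G) T v₂ g₂ y₂ ∧ ∃ k : ℤ, ∃ z ∈ cen (S : Subgroup G),
      (g₁ * z₀ * g₁⁻¹)⁻¹ * (g₂ * z₀ * g₂⁻¹) = a ^ (2 * k + 1) * z := by
    by_contra hcon
    have hall : ∀ v g y, Exit (S : Subgroup G) T v g y → Exit.fixed S t₀ g₁ = Exit.fixed S t₀ g := by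
      intro v g y x
      obtain ⟨m, mT, -, -⟩ := x.gz_mem h
      obtain ⟨k, z, hz', hk⟩ := hcyc _ (h.inv_mul_mem m₁ m₁T m mT)
      rcases Nat.even_or_odd' k with ⟨c, rfl | rfl⟩
      · apply Exit.fixed_eq h ha x₁ x (j := (c : ℤ)) hz'
        rw [hk]
        congr 1
        rw [← zpow_natCast]; congr 1
      · exfalso
        apply hcon
        refine ⟨v, g, y, x, (c : ℤ), z, hz', ?_⟩
        rw [hk]
        congr 1
        rw [← zpow_natCast]; congr 1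
    obtain ⟨g, y, x⟩ := hexit v hv hv2 hv1
    have h1 := x.v_nfixed h
    have h2 := x.cases h hv h1
    have h3 : v * z₀ ≠ 1 := by
      intro h4
      apply hvz
      calc v = v * (z₀ * z₀) := by rw [h.z₀_sq, mul_one]
        _ = v * z₀ * z₀ := by group
        _ = z₀ := by rw [h4, one_mul]
    obtain ⟨g', y', x'⟩ := hexit _ (mul_mem hv h.z₀_cen) (hinvz v hv hv2) h3
    have h4 := x'.v_nfixed h
    rw [← hall _ _ _ x', hall _ _ _ x] at h4
    exact h4 h2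
  obtain ⟨v₂, g₂, y₂, x₂, k₂, ζ, hζ, hk₂⟩ := hodd
  obtain ⟨m₂, m₂T, m₂2, -⟩ := x₂.gz_mem h
  obtain ⟨e₁, he₁⟩ : ∃ e, e = g₁ * z₀ * g₁⁻¹ := ⟨_, rfl⟩
  obtain ⟨e₂, he₂⟩ : ∃ e, e = g₂ * z₀ * g₂⁻¹ := ⟨_, rfl⟩
  rw [← he₁] at m₁ m₁T m₁2
  rw [← he₂] at m₂ m₂T m₂2
  have e₁i : e₁⁻¹ = e₁ := inv_eq_of_mul_eq_one_left m₁2
  have e₂i : e₂⁻¹ = e₂ := inv_eq_of_mul_eq_one_left m₂2
  have hk₂' : e₁ * e₂ = a ^ (2 * k₂ + 1) * ζ := by rw [← hk₂, ← he₁, ← he₂, e₁i]
  -- every exit has one of the two fixed groups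
  have htwo : ∀ v g y, Exit (S : Subgroup G) T v g y →
      Exit.fixed S t₀ g₁ = Exit.fixed S t₀ g ∨ Exit.fixed S t₀ g₂ = Exit.fixed S t₀ g := by
    intro v g y x
    obtain ⟨m, mT, -, -⟩ := x.gz_mem h
    obtain ⟨k, z, hz', hk⟩ := hcyc _ (h.inv_mul_mem m₁ m₁T m mT)
    rcases Nat.even_or_odd' k with ⟨c, rfl | rfl⟩
    · left
      apply Exit.fixed_eq h ha x₁ x (j := (c : ℤ)) hz'
      rw [← he₁, hk]
      congr 1
      rw [← zpow_natCast]; congr 1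
    · right
      have hzc : ζ⁻¹ * z ∈ cen (S : Subgroup G) := mul_mem (inv_mem hζ) hz'
      apply Exit.fixed_eq h ha x₂ x (j := (c : ℤ) - k₂) hzc
      rw [← he₂]
      have h5 : e₂⁻¹ * (g * z₀ * g⁻¹) = (e₁ * e₂)⁻¹ * (e₁⁻¹ * (g * z₀ * g⁻¹)) * 1 := by
        have : (e₁ * e₂)⁻¹ = e₂⁻¹ * e₁⁻¹ := by group
        rw [this, e₁i]
        calc e₂⁻¹ * (g * z₀ * g⁻¹) = e₂⁻¹ * (e₁ * e₁) * (g * z₀ * g⁻¹) := by rw [m₁2, mul_one]
          _ = _ := by group
      rw [h5, hk, hk₂']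
      have h6 := (mem_cen.1 (inv_mem hζ)).2 (a ^ (2 * c + 1)) (h.le (pow_mem ha _))
      have h7 : a ^ (2 * c + 1) = a ^ ((2 * (c : ℤ) + 1)) := by rw [← zpow_natCast]; congr 1
      have h8 := (mem_cen.1 (inv_mem hζ)).2 (a ^ (2 * k₂ + 1))⁻¹ (h.le (inv_mem (zpow_mem ha _)))
      calc (a ^ (2 * k₂ + 1) * ζ)⁻¹ * (a ^ (2 * c + 1) * z) * 1
          = ζ⁻¹ * (a ^ (2 * k₂ + 1))⁻¹ * (a ^ (2 * c + 1) * z) := by group
        _ = (a ^ (2 * k₂ + 1))⁻¹ * (ζ⁻¹ * a ^ (2 * c + 1)) * z := by rw [← h8]; group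
        _ = (a ^ (2 * k₂ + 1))⁻¹ * (a ^ (2 * c + 1)) * (ζ⁻¹ * z) := by rw [← h6]; group
        _ = a ^ (2 * ((c : ℤ) - k₂)) * (ζ⁻¹ * z) := by
          rw [h7, ← zpow_neg, ← zpow_add]
          congr 2; ring
  have hF2 : ∀ c ∈ Exit.fixed S t₀ g₁, c ∈ Exit.fixed S t₀ g₂ → c * c = 1 → c = 1 := by
    intro c hc1 hc2 hcc
    by_contra hne
    obtain ⟨g, y, x⟩ := hexit c (Exit.mem_fixed.1 hc1).1 hcc hne
    have := x.v_nfixed h
    rcases htwo _ _ _ x with h1 | h1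
    · rw [← h1] at this; exact this hc1
    · rw [← h1] at this; exact this hc2
  have hF : ∀ c ∈ Exit.fixed S t₀ g₁, c ∈ Exit.fixed S t₀ g₂ → c = 1 := by
    intro c hc1 hc2
    by_contra hne
    have hcS : c ∈ (S : Subgroup G) := cen_le _ (Exit.mem_fixed.1 hc1).1
    obtain ⟨k, hk⟩ := h.two ⟨c, hcS⟩
    have hk' : c ^ 2 ^ k = 1 := by simpa using congrArg Subtype.val hk
    classical
    have hex : ∃ k, c ^ 2 ^ k = 1 := ⟨k, hk'⟩
    have hm := Nat.find_spec hex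
    have hpos : 0 < Nat.find hex := by
      rw [Nat.pos_iff_ne_zero]
      intro h0
      rw [h0, pow_zero, pow_one] at hm
      exact hne hm
    have hlt := Nat.find_min hex (m := Nat.find hex - 1) (by omega)
    apply hlt
    apply hF2 _ (pow_mem hc1 _) (pow_mem hc2 _)
    rw [← pow_add]
    have : 2 ^ (Nat.find hex - 1) + 2 ^ (Nat.find hex - 1) = 2 ^ Nat.find hex := by
      rw [← two_mul, ← pow_succ']; congr 1; omega
    rw [this]; exact hm
  -- choice of `w`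
  obtain ⟨w, hw1, hw2, hww, hwne, hwz⟩ : ∃ w, w ∈ Exit.fixed S t₀ g₁ ∧ w ∉ Exit.fixed S t₀ g₂ ∧ w * w = 1 ∧
      w ≠ 1 ∧ w ≠ z₀ := by
    have hgen : ∀ w ∈ Exit.fixed S t₀ g₁, w * w = 1 → w ≠ 1 → w ≠ z₀ → w ∉ Exit.fixed S t₀ g₂ := by
      intro w hw hww hw1 _ h2
      exact hw1 (hF w hw h2)
    by_cases hvf : v ∈ Exit.fixed S t₀ g₁
    · exact ⟨v, hvf, hgen v hvf hv2 hv1 hvz, hv2, hv1, hvz⟩
    · have h1 := x₁.cases h hv hvf
      have h2 : v * z₀ ≠ 1 := by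
        intro h4
        apply hvz
        calc v = v * (z₀ * z₀) := by rw [h.z₀_sq, mul_one]
          _ = v * z₀ * z₀ := by group
          _ = z₀ := by rw [h4, one_mul]
      have h3 : v * z₀ ≠ z₀ := by
        intro h4; apply hv1; simpa using h4
      exact ⟨v * z₀, h1, hgen _ h1 (hinvz v hv hv2) h2 h3, hinvz v hv hv2, h2, h3⟩
  have hwc : w ∈ cen (S : Subgroup G) := (Exit.mem_fixed.1 hw1).1
  have hwS := (mem_cen.1 hwc).2
  have hwz2 : w * z₀ ∈ Exit.fixed S t₀ g₂ := x₂.cases h hwc hw2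
  -- the centre
  have hcen4 : ∀ c ∈ cen (S : Subgroup G), c = 1 ∨ c = z₀ ∨ c = w ∨ c = w * z₀ := by
    have key : ∀ c ∈ Exit.fixed S t₀ g₁, c = 1 ∨ c = w := by
      intro c hc
      by_cases hc2 : c ∈ Exit.fixed S t₀ g₂
      · left; exact hF c hc hc2
      · right
        have hcc := (Exit.mem_fixed.1 hc).1
        have h1 := x₂.cases h hcc hc2
        have h2 := mul_mem h1 hwz2
        have h3 : c * z₀ * (w * z₀) = c * w := by
          calc c * z₀ * (w * z₀) = c * (z₀ * w) * z₀ := by group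
            _ = c * (w * z₀) * z₀ := by rw [← hz0S w (cen_le _ hwc)]
            _ = c * w * (z₀ * z₀) := by group
            _ = c * w := by rw [h.z₀_sq, mul_one]
        rw [h3] at h2
        have h4 := hF _ (mul_mem hc hw1) h2
        calc c = c * (w * w) := by rw [hww, mul_one]
          _ = c * w * w := by group
          _ = w := by rw [h4, one_mul]
    intro c hc
    by_cases hc1 : c ∈ Exit.fixed S t₀ g₁
    · rcases key c hc1 with h1 | h1 <;> simp [h1]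
    · have h1 := key _ (x₁.cases h hc hc1)
      have h2 : c = c * z₀ * z₀ := by rw [mul_assoc, h.z₀_sq, mul_one]
      rcases h1 with h3 | h3
      · right; left; rw [h2, h3, one_mul]
      · right; right; right; rw [h2, h3]
  -- the dihedral group
  obtain ⟨b, hb⟩ : ∃ b, b = e₁ * e₂ := ⟨_, rfl⟩
  have hbT : b ∈ T := by rw [hb]; exact h.mul _ m₁ _ m₂ m₁T m₂T
  have hbe : e₁ * b * e₁⁻¹ = b⁻¹ := by
    rw [e₁i, hb]
    calc e₁ * (e₁ * e₂) * e₁ = (e₁ * e₁) * e₂ * e₁ := by group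
      _ = e₂⁻¹ * e₁⁻¹ := by rw [m₁2, one_mul, e₁i, e₂i]
      _ = (e₁ * e₂)⁻¹ := by group
  have hbj : ∀ j : ℤ, e₁ * b ^ j = b ^ (-j) * e₁ := by
    intro j
    have : e₁ * b ^ j * e₁⁻¹ = b ^ (-j) := by
      rw [← conj_zpow, hbe, inv_zpow, zpow_neg]
    rw [← this]; group
  rw [← hb] at hk₂'
  -- `T = ⟨b⟩ Z`
  have haT : ∃ m : ℤ, ∃ c ∈ cen (S : Subgroup G), a = b ^ m * c := by
    obtain ⟨K, hK⟩ := h.two ⟨a, h.le ha⟩
    have hK' : a ^ 2 ^ K = 1 := by simpa using congrArg Subtype.val hK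
    have hcop : IsCoprime (2 * k₂ + 1) ((2 ^ K : ℕ) : ℤ) := by
      push_cast
      apply IsCoprime.pow_right
      exact ⟨1, -k₂, by ring⟩
    obtain ⟨u, u', hu⟩ := hcop
    refine ⟨u, (ζ ^ u)⁻¹, inv_mem (zpow_mem hζ _), ?_⟩
    have hcomm : Commute (a ^ (2 * k₂ + 1)) ζ := (mem_cen.1 hζ).2 _ (h.le (zpow_mem ha _))
    rw [hk₂', hcomm.mul_zpow, ← zpow_mul, mul_assoc, mul_inv_cancel, mul_one]
    have e3 : (2 * k₂ + 1) * u = 1 + ((2 ^ K : ℕ) : ℤ) * (-u') := by linarith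
    rw [e3, zpow_add, zpow_one, zpow_mul, zpow_natCast, hK', one_zpow, mul_one]
  have hTb : ∀ t ∈ T, ∃ j : ℤ, ∃ c ∈ cen (S : Subgroup G), t = b ^ j * c := by
    intro t ht
    obtain ⟨k, z, hz', rfl⟩ := hcyc t ht
    obtain ⟨m, c, hc, hac⟩ := haT
    refine ⟨m * k, c ^ k * z, mul_mem (pow_mem hc _) hz', ?_⟩
    have hcomm : Commute (b ^ m) c := (mem_cen.1 hc).2 _ (h.le (zpow_mem hbT _))
    rw [hac, hcomm.mul_pow, zpow_mul, zpow_natCast, mul_assoc]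
  -- `z₀ ∈ ⟨b⟩`
  have hzb : ∃ j : ℤ, z₀ = b ^ j := by
    obtain ⟨j, c, hc, hj⟩ := hTb t₀ h.t₀_mem
    have h1 := h.conj_t₀ e₁ m₁ m₁T
    rw [hj] at h1
    have h2 := (mem_cen.1 hc).2 e₁ m₁
    refine ⟨-j - j, ?_⟩
    have h3 : e₁ * (b ^ j * c) * e₁⁻¹ = b ^ (-j) * c := by
      calc e₁ * (b ^ j * c) * e₁⁻¹ = (e₁ * b ^ j) * c * e₁⁻¹ := by group
        _ = b ^ (-j) * (e₁ * c) * e₁⁻¹ := by rw [hbj]; group
        _ = b ^ (-j) * c := by rw [h2]; group
    rw [h3] at h1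
    have h4 := (mem_cen.1 hc).2 z₀ (cen_le _ h.z₀_cen)
    have h5 : b ^ (-j) * c = b ^ j * z₀ * c := by rw [h1, mul_assoc, mul_assoc, h4]
    have h6 := mul_right_cancel h5
    rw [sub_eq_add_neg, zpow_add]
    nth_rewrite 2 [h6]
    rw [← mul_assoc, ← zpow_add, neg_add_cancel, zpow_zero, one_mul]
  obtain ⟨i₀, hi₀⟩ := hzb
  let D : Subgroup G :=
    { carrier := {x | (∃ j : ℤ, x = b ^ j) ∨ (∃ j : ℤ, x = e₁ * b ^ j)}
      mul_mem' := by
        rintro x y (⟨i, rfl⟩ | ⟨i, rfl⟩) (⟨j, rfl⟩ | ⟨j, rfl⟩)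
        · left; exact ⟨i + j, (zpow_add _ _ _).symm⟩
        · right
          refine ⟨-i + j, ?_⟩
          rw [zpow_add, ← mul_assoc, ← mul_assoc, hbj (-i), neg_neg]
        · right
          exact ⟨i + j, by rw [zpow_add, mul_assoc]⟩
        · left
          refine ⟨-i + j, ?_⟩
          rw [hbj i, zpow_add]
          calc b ^ (-i) * e₁ * (e₁ * b ^ j) = b ^ (-i) * (e₁ * e₁) * b ^ j := by group
            _ = _ := by rw [m₁2, mul_one]
      one_mem' := Or.inl ⟨0, by simp⟩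
      inv_mem' := by
        rintro x (⟨i, rfl⟩ | ⟨i, rfl⟩)
        · left; exact ⟨-i, by rw [zpow_neg]⟩
        · right
          refine ⟨i, ?_⟩
          rw [mul_inv_rev, e₁i, ← zpow_neg, ← hbj] }
  have hD : ∀ x, x ∈ D ↔ (∃ j : ℤ, x = b ^ j) ∨ (∃ j : ℤ, x = e₁ * b ^ j) := fun x => Iff.rfl
  have hDS : D ≤ (S : Subgroup G) := by
    intro x hx
    rw [hD] at hx
    rcases hx with ⟨j, rfl⟩ | ⟨j, rfl⟩
    · exact h.le (zpow_mem hbT _)
    · exact mul_mem m₁ (h.le (zpow_mem hbT _))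
  have hzD : z₀ ∈ D := (hD _).2 (Or.inl ⟨i₀, hi₀⟩)
  have huniq : ∀ x : G, (∃ j : ℤ, x = b ^ j) → x * x = 1 → x = 1 ∨ x = z₀ := by
    rintro x ⟨j, rfl⟩ hx2
    by_contra hcon
    push Not at hcon
    obtain ⟨c1, c2⟩ := hcon
    have d1 : (orderOf b : ℤ) ∣ j + j := by
      rw [orderOf_dvd_iff_zpow_eq_one, zpow_add]; exact hx2
    have d2 : (orderOf b : ℤ) ∣ i₀ + i₀ := by
      rw [orderOf_dvd_iff_zpow_eq_one, zpow_add, ← hi₀]; exact h.z₀_sq
    have d3 : ¬ (orderOf b : ℤ) ∣ j := by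
      rw [orderOf_dvd_iff_zpow_eq_one]; exact c1
    have d4 : ¬ (orderOf b : ℤ) ∣ i₀ := by
      rw [orderOf_dvd_iff_zpow_eq_one, ← hi₀]; exact h.z₀_ne
    obtain ⟨u, hu⟩ := d1
    obtain ⟨u', hu'⟩ := d2
    have ou : Odd u := by
      rw [← Int.not_even_iff_odd]
      rintro ⟨m, rfl⟩
      apply d3
      exact ⟨m, by linarith⟩
    have ou' : Odd u' := by
      rw [← Int.not_even_iff_odd]
      rintro ⟨m, rfl⟩
      apply d4
      exact ⟨m, by linarith⟩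
    obtain ⟨m, hm⟩ := ou.sub_odd ou'
    have d5 : (orderOf b : ℤ) ∣ j - i₀ := by
      refine ⟨m, ?_⟩
      have : (orderOf b : ℤ) * (u - u') = (orderOf b : ℤ) * (m + m) := by rw [hm]
      linarith
    rw [orderOf_dvd_iff_zpow_eq_one, zpow_sub, mul_inv_eq_one] at d5
    exact c2 (d5.trans hi₀.symm)
  have hwD : w ∉ D := by
    intro hw
    rcases (hD _).1 hw with h1 | ⟨j, hj⟩
    · rcases huniq w h1 hww with h2 | h2
      · exact hwne h2
      · exact hwz h2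
    · apply m₁T
      have h1 : w ∈ T := h.cen_le hwc
      have h2 : e₁ = w * (b ^ j)⁻¹ := by rw [hj]; group
      rw [h2]
      exact mul_mem h1 (inv_mem (zpow_mem hbT _))
  have hcover : ∀ x ∈ (S : Subgroup G), x ∈ D ∨ x * w ∈ D := by
    have hcov1 : ∀ x ∈ T, x ∈ D ∨ x * w ∈ D := by
      intro x hx
      obtain ⟨j, c, hc, rfl⟩ := hTb x hx
      have hbD : b ^ j ∈ D := (hD _).2 (Or.inl ⟨j, rfl⟩)
      rcases hcen4 c hc with rfl | rfl | rfl | rfl
      · left; simpa using hbD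
      · left; exact mul_mem hbD hzD
      · right; rw [mul_assoc, hww, mul_one]; exact hbD
      · right
        have : b ^ j * (w * z₀) * w = b ^ j * z₀ := by
          have h1 := hwS z₀ (cen_le _ h.z₀_cen)
          calc b ^ j * (w * z₀) * w = b ^ j * w * (z₀ * w) := by group
            _ = b ^ j * (w * w) * z₀ := by rw [h1]; group
            _ = b ^ j * z₀ := by rw [hww, mul_one]
        rw [this]; exact mul_mem hbD hzD
    intro x hx
    by_cases hxT : x ∈ T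
    · exact hcov1 x hxT
    · have h1 := h.inv_mul_mem m₁ m₁T hx hxT
      have heD : e₁ ∈ D := (hD _).2 (Or.inr ⟨0, by simp⟩)
      rcases hcov1 _ h1 with h2 | h2
      · left
        have := mul_mem heD h2
        simpa using this
      · right
        have := mul_mem heD h2
        have e5 : e₁ * (e₁⁻¹ * x * w) = x * w := by group
        rwa [e5] at this
  have hidx : D.relIndex (S : Subgroup G) = 2 := by
    rw [Subgroup.relIndex, Subgroup.index_eq_two_iff_exists_notMem_and]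
    refine ⟨⟨w, cen_le _ hwc⟩, fun h1 => hwD h1, fun x => ?_⟩
    rcases hcover x x.2 with h1 | h1
    · right; exact h1
    · left; exact h1
  have how : orderOf w = 2 := by
    rw [orderOf_eq_prime_iff]
    exact ⟨by rw [pow_two]; exact hww, hwne⟩
  rcases Cfsg.Agent.S0111.result S D hDS hidx w how (cen_le _ hwc) hwD with ⟨M, -, hM, -⟩ | ⟨g, hg⟩
  · exact hno M hM
  · -- `g w g⁻¹ ∈ D` is conjugate to `z₀`
    have hconj : ∃ g', g' * z₀ * g'⁻¹ = w := by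
      have hgw2 : (g * w * g⁻¹) * (g * w * g⁻¹) = 1 := by
        calc (g * w * g⁻¹) * (g * w * g⁻¹) = g * (w * w) * g⁻¹ := by group
          _ = 1 := by rw [hww]; group
      rcases (hD _).1 hg with h1 | ⟨j, hj⟩
      · rcases huniq _ h1 hgw2 with h2 | h2
        · exfalso
          apply hwne
          calc w = g⁻¹ * (g * w * g⁻¹) * g := by group
            _ = 1 := by rw [h2]; group
        · refine ⟨g⁻¹, ?_⟩
          rw [← h2]; group
      · rcases Int.even_or_odd' j with ⟨m, rfl | rfl⟩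
        · refine ⟨g⁻¹ * b ^ (-m) * g₁, ?_⟩
          have h3 : b ^ (-m) * e₁ * b ^ m = e₁ * b ^ (2 * m) := by
            rw [← hbj, mul_assoc, ← zpow_add]; congr 2; ring
          calc g⁻¹ * b ^ (-m) * g₁ * z₀ * (g⁻¹ * b ^ (-m) * g₁)⁻¹
              = g⁻¹ * (b ^ (-m) * (g₁ * z₀ * g₁⁻¹) * b ^ m) * g := by group
            _ = g⁻¹ * (g * w * g⁻¹) * g := by rw [← he₁, h3, ← hj]
            _ = w := by group
        · refine ⟨g⁻¹ * b ^ (-m) * g₂, ?_⟩
          have h4 : e₂ = e₁ * b := by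
            rw [hb, ← mul_assoc, m₁2, one_mul]
          have h3 : b ^ (-m) * e₂ * b ^ m = e₁ * b ^ (2 * m + 1) := by
            rw [h4, ← mul_assoc, ← hbj, mul_assoc, mul_assoc]
            congr 1
            rw [← zpow_one_add, ← zpow_add]
            congr 1; ring
          calc g⁻¹ * b ^ (-m) * g₂ * z₀ * (g⁻¹ * b ^ (-m) * g₂)⁻¹
              = g⁻¹ * (b ^ (-m) * (g₂ * z₀ * g₂⁻¹) * b ^ m) * g := by group
            _ = g⁻¹ * (g * w * g⁻¹) * g := by rw [← he₂, h3, ← hj]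
            _ = w := by group
    obtain ⟨g', hg'⟩ := hconj
    have := hz g' (by rw [hg']; exact hwc)
    rw [hg'] at this
    exact hwz this

end Cfsg.Agent.H358.Fus
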