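import Cfsg.Agent.H358.Fus3
import Cfsg.Agent.S1169
import Cfsg.Agent.S1225
import Cfsg.Agent.S0215

/-!
# Escape from the centre (helper358)
-/

set_option autoImplicit false
set_option linter.unusedSectionVars false

namespace Cfsg.Agent.H358.Fus

open Cfsg.Agent.H358.TwoTransMod4

variable {G : Type*} [Group G]

/-- Sylow's theorem inside an overgroup of a Sylow subgroup. -/
theorem exists_cj_le [Finite G] {p : ℕ} [Fact p.Prime] (S : Sylow p G) {K P : Subgroup G} (hSK : (S : Subgroup G) ≤ K)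
    (hPK : P ≤ K) (hP : IsPGroup p P) : ∃ c ∈ K, cj c P ≤ (S : Subgroup G) := by
  have h1 : IsPGroup p (P.subgroupOf K) := hP.comap_subtype
  obtain ⟨Q, hQ⟩ := h1.exists_le_sylow
  obtain ⟨c, hc⟩ := MulAction.exists_smul_eq K Q (S.subtype hSK)
  refine ⟨c, c.2, ?_⟩
  intro x hx
  rw [mem_cj] at hx
  have hx1 : (⟨(c : G)⁻¹ * x * c, hPK hx⟩ : K) ∈ Q := hQ (by rw [Subgroup.mem_subgroupOf]; exact hx)
  have hx2 : MulAut.conj c • (⟨(c : G)⁻¹ * x * c, hPK hx⟩ : K) ∈ (c • Q : Sylow p K).toSubgroup := by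
    rw [Sylow.coe_subgroup_smul]
    exact Subgroup.smul_mem_pointwise_smul _ _ _ hx1
  rw [hc] at hx2
  have hx3 : ((MulAut.conj c • (⟨(c : G)⁻¹ * x * c, hPK hx⟩ : K) : K) : G) = x := by
    simp [mul_assoc]
  have hx4 : ((MulAut.conj c • (⟨(c : G)⁻¹ * x * c, hPK hx⟩ : K) : K) : G) ∈ (S : Subgroup G) := hx2
  rwa [hx3] at hx4

theorem cj_mul (g k : G) (S : Subgroup G) : cj (g * k) S = cj g (cj k S) := by
  ext x
  rw [mem_cj, mem_cj, mem_cj]
  have : (g * k)⁻¹ * x * (g * k) = k⁻¹ * (g⁻¹ * x * g) * k := by group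
  rw [this]

theorem cj_mono {g : G} {S T : Subgroup G} (h : S ≤ T) : cj g S ≤ cj g T := Subgroup.map_mono h

theorem cj_eq_of_le [Finite G] {g : G} {S : Subgroup G} (h : cj g S ≤ S) : cj g S = S :=
  Subgroup.eq_of_le_of_card_ge h (card_cj g S).ge

theorem mem_cent {v c : G} : c ∈ Subgroup.centralizer ({v} : Set G) ↔ c * v * c⁻¹ = v := by
  rw [Subgroup.mem_centralizer_singleton_iff]
  constructor
  · intro h; rw [h]; group
  · intro h
    calc c * v = (c * v * c⁻¹) * c := by group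
      _ = v * c := by rw [h]

/-- If `s ∈ S` is conjugate to `v ∈ Z(S)` then it is so by an element mapping `C_S(s)` into `S`. -/
theorem exists_good [Finite G] (S : Sylow 2 G) {v s g : G} (hv : v ∈ cen (S : Subgroup G)) (hg : g * s * g⁻¹ = v) :
    ∃ g', g' * s * g'⁻¹ = v ∧ cj g' (cs (S : Subgroup G) s) ≤ (S : Subgroup G) := by
  have : Fact (Nat.Prime 2) := ⟨Nat.prime_two⟩
  have hSK : (S : Subgroup G) ≤ Subgroup.centralizer {v} := by
    intro x hx
    rw [mem_cent, (mem_cen.1 hv).2 x hx]; group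
  have hPK : cj g (cs (S : Subgroup G) s) ≤ Subgroup.centralizer {v} := by
    intro x hx
    rw [mem_cj] at hx
    have := (mem_cs.1 hx).2
    rw [mem_cent, ← hg]
    calc x * (g * s * g⁻¹) * x⁻¹ = g * ((g⁻¹ * x * g) * s) * (g⁻¹ * x * g)⁻¹ * g⁻¹ := by group
      _ = g * s * g⁻¹ := by rw [this]; group
  have hP : IsPGroup 2 (cj g (cs (S : Subgroup G) s)) := by
    have : IsPGroup 2 (cs (S : Subgroup G) s) := S.isPGroup'.to_le inf_le_left
    exact this.map _
  obtain ⟨c, hc, hle⟩ := exists_cj_le S hSK hPK hP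
  refine ⟨c * g, ?_, by rw [cj_mul]; exact hle⟩
  rw [mem_cent] at hc
  calc c * g * s * (c * g)⁻¹ = c * (g * s * g⁻¹) * c⁻¹ := by group
    _ = v := by rw [hg, hc]

/-- Burnside: `z₀` is not conjugate to any other central element. -/
theorem Dat.burnside [Finite G] (S : Sylow 2 G) {T : Subgroup G} {t₀ z₀ : G} (h : Dat (S : Subgroup G) T t₀ z₀)
    (g : G) (hg : g * z₀ * g⁻¹ ∈ cen (S : Subgroup G)) : g * z₀ * g⁻¹ = z₀ := by
  have : Fact (Nat.Prime 2) := ⟨Nat.prime_two⟩
  obtain ⟨v, hv⟩ : ∃ v, v = g * z₀ * g⁻¹ := ⟨_, rfl⟩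
  rw [← hv] at hg ⊢
  have hSK : (S : Subgroup G) ≤ Subgroup.centralizer {v} := by
    intro x hx
    rw [mem_cent, (mem_cen.1 hg).2 x hx]; group
  have hPK : cj g (S : Subgroup G) ≤ Subgroup.centralizer {v} := by
    intro x hx
    rw [mem_cj] at hx
    have := (mem_cen.1 h.z₀_cen).2 _ hx
    rw [mem_cent, hv]
    calc x * (g * z₀ * g⁻¹) * x⁻¹ = g * ((g⁻¹ * x * g) * z₀) * (g⁻¹ * x * g)⁻¹ * g⁻¹ := by group
      _ = g * z₀ * g⁻¹ := by rw [this]; group
  have hP : IsPGroup 2 (cj g (S : Subgroup G)) := S.isPGroup'.map _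
  obtain ⟨c, hc, hle⟩ := exists_cj_le S hSK hPK hP
  rw [mem_cent] at hc
  rw [← cj_mul] at hle
  have hn : ∀ x ∈ (S : Subgroup G), (c * g) * x * (c * g)⁻¹ ∈ (S : Subgroup G) :=
    fun x hx => hle (conj_mem_cj.2 hx)
  obtain ⟨y, hy, hyT⟩ := h.ne
  have hcomm : ((c * g) * y * (c * g)⁻¹) * ((c * g) * t₀ * (c * g)⁻¹) * ((c * g) * y * (c * g)⁻¹)⁻¹ *
      ((c * g) * t₀ * (c * g)⁻¹)⁻¹ = v := by
    have h1 := h.conj_t₀ y hy hyT
    have h2 := (mem_cen.1 h.z₀_cen).2 t₀ (h.le h.t₀_mem)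
    calc _ = (c * g) * (y * t₀ * y⁻¹ * t₀⁻¹) * (c * g)⁻¹ := by group
      _ = (c * g) * z₀ * (c * g)⁻¹ := by rw [h1, h2]; group
      _ = c * (g * z₀ * g⁻¹) * c⁻¹ := by group
      _ = v := by rw [← hv, hc]
  have := h.comm_cases (hn y hy) (hn t₀ (h.le h.t₀_mem)) (by rw [hcomm]; exact hg)
  rw [hcomm] at this
  rcases this with h3 | h3
  · exfalso
    apply h.z₀_ne
    have : z₀ = g⁻¹ * v * g := by rw [hv]; group
    rw [this, h3]; group
  · exact h3

/-- The elements of the centre all of whose conjugates in `S` are central: they generate a strongly closed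
subgroup. -/
def core (S : Subgroup G) : Set G := {v | v ∈ cen S ∧ ∀ g, g * v * g⁻¹ ∈ S → g * v * g⁻¹ ∈ cen S}

theorem core_closed {S : Subgroup G} {v g : G} (hv : v ∈ core S) (hg : g * v * g⁻¹ ∈ S) : g * v * g⁻¹ ∈ core S := by
  refine ⟨hv.2 g hg, fun k hk => ?_⟩
  have e : k * (g * v * g⁻¹) * k⁻¹ = (k * g) * v * (k * g)⁻¹ := by group
  rw [e] at hk ⊢
  exact hv.2 _ hk

theorem closure_core [Finite G] (S : Sylow 2 G) {u g : G} (hu : u ∈ Subgroup.closure (core (S : Subgroup G)))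
    (hg : g * u * g⁻¹ ∈ (S : Subgroup G)) : g * u * g⁻¹ ∈ Subgroup.closure (core (S : Subgroup G)) := by
  have hUle : Subgroup.closure (core (S : Subgroup G)) ≤ cen (S : Subgroup G) := by
    rw [Subgroup.closure_le]; intro v hv; exact hv.1
  obtain ⟨g', h1, h2⟩ := exists_good S (v := u) (s := g * u * g⁻¹) (g := g⁻¹) (hUle hu) (by group)
  have h3 : cj g' (Subgroup.closure (core (S : Subgroup G))) ≤ Subgroup.closure (core (S : Subgroup G)) := by
    unfold cj
    rw [MonoidHom.map_closure, Subgroup.closure_le]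
    rintro _ ⟨v, hv, rfl⟩
    have h4 : g' * v * g'⁻¹ ∈ (S : Subgroup G) := h2 (conj_mem_cj.2 (cen_le_cs hg hv.1))
    exact Subgroup.subset_closure (core_closed hv h4)
  have h4 := cj_eq_of_le h3
  have h5 : u ∈ cj g' (Subgroup.closure (core (S : Subgroup G))) := by rw [h4]; exact hu
  rw [mem_cj] at h5
  have : g'⁻¹ * u * g' = g * u * g⁻¹ := by
    calc g'⁻¹ * u * g' = g'⁻¹ * (g' * (g * u * g⁻¹) * g'⁻¹) * g' := by rw [h1]
      _ = g * u * g⁻¹ := by group
  rwa [this] at h5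

/-- Every nontrivial central element is fused out of the centre. -/
theorem Dat.escape [Finite G] [IsSimpleGroup G] (S : Sylow 2 G) {T : Subgroup G} {t₀ z₀ : G}
    (h : Dat (S : Subgroup G) T t₀ z₀) {v : G} (hv : v ∈ cen (S : Subgroup G)) (hv1 : v ≠ 1) :
    ∃ s ∈ (S : Subgroup G), s ∉ cen (S : Subgroup G) ∧ ∃ g, g * s * g⁻¹ = v ∧ cj g (cs (S : Subgroup G) s) ≤ (S : Subgroup G) := by
  have : Fact (Nat.Prime 2) := ⟨Nat.prime_two⟩
  by_contra hcon
  push Not at hcon
  have hvU : v ∈ core (S : Subgroup G) := by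
    refine ⟨hv, fun g hg => ?_⟩
    by_contra hnc
    obtain ⟨g', h1, h2⟩ := exists_good S (v := v) (s := g * v * g⁻¹) (g := g⁻¹) hv (by group)
    exact hcon _ hg hnc g' h1 h2
  obtain ⟨U, hU⟩ : ∃ U, U = Subgroup.closure (core (S : Subgroup G)) := ⟨_, rfl⟩
  have hUle : U ≤ cen (S : Subgroup G) := by
    rw [hU, Subgroup.closure_le]; intro v hv; exact hv.1
  have hvU' : v ∈ U := by rw [hU]; exact Subgroup.subset_closure hvU
  have hUne : U ≠ ⊥ := by
    intro h0; rw [h0, Subgroup.mem_bot] at hvU'; exact hv1 hvU'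
  have hUc : IsMulCommutative U := ⟨⟨fun a b => Subtype.ext ((mem_cen.1 (hUle b.2)).2 a (cen_le _ (hUle a.2)))⟩⟩
  have hUs : Cfsg.IsStronglyClosed U (S : Subgroup G) := by
    refine ⟨hUle.trans (cen_le _), fun x hx g hg => ?_⟩
    rw [hU] at hx ⊢
    exact closure_core S hx hg
  obtain ⟨a, ha, b, hb, hab⟩ := h.na
  rcases Cfsg.Agent.S1169.result S U hUne hUc hUs with h1 | ⟨H, hH⟩
  · exact hab (congrArg Subtype.val (h1.is_comm.comm (⟨a, ha⟩ : (S : Subgroup G)) ⟨b, hb⟩))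
  · -- all involutions are conjugate
    have hna : ∃ a b : G, a * b ≠ b * a := ⟨a, b, hab⟩
    obtain ⟨hHt, hHe, hHo⟩ := hH
    -- an involution of `H`
    have h2 : 2 ∣ Nat.card H := even_iff_two_dvd.1 hHe
    obtain ⟨t, ht⟩ := exists_prime_orderOf_dvd_card' (G := H) 2 h2
    have ht' : orderOf (t : G) = 2 := by rw [Subgroup.orderOf_coe]; exact ht
    obtain ⟨u, hu, huH⟩ : ∃ u : G, orderOf u = 2 ∧ u ∉ H := by
      by_contra hcon2
      push Not at hcon2
      have hle : Subgroup.normalClosure {(t : G)} ≤ H := by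
        unfold Subgroup.normalClosure
        rw [Subgroup.closure_le]
        intro x hx
        rw [Group.mem_conjugatesOfSet_iff] at hx
        obtain ⟨y, hy, hyx⟩ := hx
        rw [Set.mem_singleton_iff] at hy
        subst hy
        apply hcon2
        obtain ⟨c, hc⟩ := isConj_iff.1 hyx
        rw [← hc]
        rw [← ht']
        exact (MulAut.conj c).orderOf_eq _
      rcases (inferInstance : (Subgroup.normalClosure {(t : G)}).Normal).eq_bot_or_eq_top with h3 | h3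
      · have : (t : G) ∈ Subgroup.normalClosure {(t : G)} := Subgroup.subset_normalClosure rfl
        rw [h3, Subgroup.mem_bot] at this
        rw [this] at ht'
        simp at ht'
      · rw [h3] at hle
        exact hHt (top_le_iff.1 hle)
    have hconj := (Cfsg.Agent.S1225.result H ⟨hHt, hHe, hHo⟩ u hu huH t t ht' t.2 ht' t.2).2
    have hz2 : orderOf z₀ = 2 := by
      rw [orderOf_eq_prime_iff]
      exact ⟨by rw [pow_two]; exact h.z₀_sq, h.z₀_ne⟩
    -- an involution of `U`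
    have h3 : ∃ w ∈ U, orderOf w = 2 := by
      have hU2 : IsPGroup 2 U := S.isPGroup'.to_le (hUle.trans (cen_le _))
      have : Nontrivial U := (Subgroup.nontrivial_iff_ne_bot U).2 hUne
      obtain ⟨n, hn, hcard⟩ := hU2.nontrivial_iff_card.1 this
      obtain ⟨w, hw⟩ := exists_prime_orderOf_dvd_card' (G := U) 2 (by rw [hcard]; exact dvd_pow_self 2 hn.ne')
      exact ⟨w, w.2, by rw [Subgroup.orderOf_coe]; exact hw⟩
    obtain ⟨w, hwU, hw⟩ := h3
    have hwz : w = z₀ := by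
      obtain ⟨c, hc⟩ := isConj_iff.1 (hconj z₀ w hz2 hw)
      rw [← hc]
      apply h.burnside S
      rw [hc]; exact hUle hwU
    rw [hwz] at hwU
    have hiso : ∀ g : G, g * z₀ * g⁻¹ ∈ S → g * z₀ * g⁻¹ = z₀ := by
      intro g hg
      exact h.burnside S g (hUle (hUs.2 z₀ hwU g hg))
    obtain ⟨N, hN, hodd, hcomm⟩ := Cfsg.Agent.S0215.result S z₀ hz2 (cen_le _ h.z₀_cen) hiso
    rcases hN.eq_bot_or_eq_top with h4 | h4
    · -- `z₀` central in `G`
      have hcent : z₀ ∈ Subgroup.center G := by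
        rw [Subgroup.mem_center_iff]
        intro g
        have := hcomm g
        rw [h4, Subgroup.mem_bot] at this
        have : z₀ * g * z₀⁻¹ = g := mul_inv_eq_one.1 this
        calc g * z₀ = z₀ * g * z₀⁻¹ * z₀ := by rw [this]
          _ = z₀ * g := by group
      rcases (inferInstance : (Subgroup.center G).Normal).eq_bot_or_eq_top with h5 | h5
      · rw [h5, Subgroup.mem_bot] at hcent
        exact h.z₀_ne hcent
      · obtain ⟨a, b, hab⟩ := hna
        apply hab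
        have : b ∈ Subgroup.center G := by rw [h5]; trivial
        rw [Subgroup.mem_center_iff] at this
        exact this a
    · rw [h4] at hodd
      have h5 : 2 ∣ Nat.card (⊤ : Subgroup G) := by
        rw [Subgroup.card_top, ← hz2]; exact orderOf_dvd_natCard z₀
      exact (Nat.not_even_iff_odd.2 hodd) (even_iff_two_dvd.2 h5)

end Cfsg.Agent.H358.Fus
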