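import Cfsg.Agent.H358.Fus6
import Cfsg.Prelude.Def_CaseTheorems

/-!
# The `2`-rank of a simple group whose Sylow `2`-subgroup `S` has an abelian subgroup `T` of index two with
`T / Z(S)` cyclic (helper358)
-/

set_option autoImplicit false
set_option linter.unusedSectionVars false

namespace Cfsg.Agent.H358.Fus

open Cfsg.Agent.H358.TwoTransMod4

variable {G : Type*} [Group G]

theorem prank_of_sylow [Finite G] (S : Sylow 2 G)
    (hS : ∀ A : Subgroup G, A ≤ (S : Subgroup G) → (∀ x ∈ A, ∀ y ∈ A, x * y = y * x) → (∀ x ∈ A, x * x = 1) →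
      Nat.card A ≤ 4) : Cfsg.PRankLE 2 2 G := by
  have : Fact (Nat.Prime 2) := ⟨Nat.prime_two⟩
  intro A hA hA2
  have hp : IsPGroup 2 A := by
    intro a
    exact ⟨1, by apply Subtype.ext; simpa using hA2 a a.2⟩
  obtain ⟨c, -, hc⟩ := exists_cj_le S (K := ⊤) le_top le_top hp
  have h1 := hS (cj c A) hc ?_ ?_
  · rw [card_cj] at h1; simpa using h1
  · intro x hx y hy
    rw [mem_cj] at hx hy
    have := congrArg Subtype.val (hA.is_comm.comm (⟨_, hx⟩ : A) ⟨_, hy⟩)
    have this' : c⁻¹ * x * c * (c⁻¹ * y * c) = c⁻¹ * y * c * (c⁻¹ * x * c) := this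
    calc x * y = c * (c⁻¹ * x * c * (c⁻¹ * y * c)) * c⁻¹ := by group
      _ = y * x := by rw [this']; group
  · intro x hx
    rw [mem_cj] at hx
    have := hA2 _ hx
    rw [pow_two] at this
    calc x * x = c * (c⁻¹ * x * c * (c⁻¹ * x * c)) * c⁻¹ := by group
      _ = 1 := by rw [this]; group

theorem card_le_two [Finite G] {A : Subgroup G} {z : G} (h : ∀ a ∈ A, a = 1 ∨ a = z) : Nat.card A ≤ 2 := by
  classical
  have hinj : Function.Injective (fun a : A => (decide ((a : G) = 1))) := by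
    intro a b hab
    simp only [decide_eq_decide] at hab
    apply Subtype.ext
    rcases h a a.2 with h1 | h1
    · rw [h1, hab.1 h1]
    · rcases h b b.2 with h2 | h2
      · rw [h2, hab.2 h2]
      · rw [h1, h2]
  simpa using Nat.card_le_card_of_injective _ hinj

theorem Ab2.prank_large [Finite G] [IsSimpleGroup G] (S : Sylow 2 G) {T : Subgroup G} (h : Ab2 (S : Subgroup G) T)
    (hno : ∀ M : Subgroup G, M.index ≠ 2)
    {a : G} (ha : a ∈ T) (hcyc : ∀ t ∈ T, ∃ k : ℕ, ∃ z ∈ cen (S : Subgroup G), t = a ^ k * z)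
    (ha2 : a * a ∉ cen (S : Subgroup G)) : Cfsg.PRankLE 2 2 G := by
  have : Fact (Nat.Prime 2) := ⟨Nat.prime_two⟩
  obtain ⟨k, hk0, hks, hkn, z₀, hd⟩ := h.exists_dat S.isPGroup' ha hcyc
  have hk2 : 2 ≤ k := by
    by_contra hlt
    have : k = 1 := by omega
    subst this
    apply ha2
    have : a * a = a ^ 2 ^ 1 := by rw [pow_one, pow_two]
    rw [this]; exact hks
  have hw : ∀ g, cj g T ≤ (S : Subgroup G) → cj g T = T := by
    intro g hg
    apply h.weakly ha ha2 hg _ (card_cj g T)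
    intro x hx y hy
    rw [mem_cj] at hx hy
    have := h.comm _ hx _ hy
    calc x * y = g * (g⁻¹ * x * g * (g⁻¹ * y * g)) * g⁻¹ := by group
      _ = y * x := by rw [this]; group
  apply prank_of_sylow S
  intro A hA hAc hA2
  have hb := card_le_two_mul_inf h hA
  by_cases hex : ∃ t ∈ T, t * t = 1 ∧ t ∉ cen (S : Subgroup G)
  · -- Case I
    obtain ⟨t, ht, ht2, htc⟩ := hex
    obtain ⟨c, hc, hcz⟩ := hd.exists_sqrt ha hk2 rfl ht ht2 htc
    have h4 := hd.caseI S hw hc hcz
    by_cases hAT : ∃ y ∈ A, y ∉ T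
    · obtain ⟨y, hy, hyT⟩ := hAT
      -- `A ∩ T ≤ Z(S)` has order at most two
      have h5 : A ⊓ T ≤ hd.om ⊓ cen (S : Subgroup G) := by
        intro x hx
        refine ⟨⟨hx.2, hA2 x hx.1⟩, h.mem_cen_of_comm hx.2 (hA hy) hyT (hAc _ hy _ hx.1)⟩
      have h6 : hd.om ⊓ cen (S : Subgroup G) < hd.om := by
        apply lt_of_le_of_ne inf_le_left
        intro h7
        apply htc
        have : t ∈ hd.om := ⟨ht, ht2⟩
        rw [← h7] at this
        exact this.2
      have h7 : Nat.card ↥(hd.om ⊓ cen (S : Subgroup G)) ∣ Nat.card hd.om := Subgroup.card_dvd_of_le h6.le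
      have h8 : Nat.card ↥(hd.om ⊓ cen (S : Subgroup G)) ≠ Nat.card hd.om := by
        intro h9
        exact h6.ne (Subgroup.eq_of_le_of_card_ge h6.le h9.ge)
      have h9 : Nat.card ↥(A ⊓ T) ≤ Nat.card ↥(hd.om ⊓ cen (S : Subgroup G)) := Subgroup.card_le_of_le h5
      obtain ⟨m, hm⟩ := h7
      have hpos : 0 < Nat.card hd.om := Nat.card_pos
      have hm2 : 2 ≤ m := by
        rcases Nat.lt_or_ge m 2 with h10 | h10
        · interval_cases m
          · omega
          · exact absurd (by rw [hm]; ring) h8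
        · exact h10
      have h11 := hb.1
      nlinarith
    · push Not at hAT
      have h5 : A ≤ hd.om := fun x hx => ⟨hAT x hx, hA2 x hx⟩
      exact (Subgroup.card_le_of_le h5).trans h4
  · -- Case II
    push Not at hex
    have hVT : ∀ v, v ∈ cen (S : Subgroup G) → v * v = 1 → v ∈ VT (S : Subgroup G) T := by
      intro v hv hv2 n hn
      apply hex
      · rw [cj_eq_iff, Subgroup.mem_normalizer_iff] at hn
        exact (hn v).1 (h.cen_le hv)
      · calc n * v * n⁻¹ * (n * v * n⁻¹) = n * (v * v) * n⁻¹ := by group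
          _ = 1 := by rw [hv2]; group
    have h5 := hd.cen_invol hno S ha hcyc (hd.burnside S)
      (fun v hv hv2 hv1 => hd.exit_of_VT S hw (hVT v hv hv2) hv1)
    have h6 : Nat.card ↥(A ⊓ T) ≤ 2 := by
      apply card_le_two (z := z₀)
      intro x hx
      exact h5 x (hex x hx.2 (hA2 x hx.1)) (hA2 x hx.1)
    have := hb.1
    omega

end Cfsg.Agent.H358.Fus
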