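import Cfsg.Agent.H358.Fus7

/-!
# The `2`-rank of a simple group whose Sylow `2`-subgroup `S` has an abelian subgroup `T` of index two with
`T / Z(S)` cyclic, the case `|S : Z(S)| = 4` (helper358)
-/

set_option autoImplicit false
set_option linter.unusedSectionVars false

namespace Cfsg.Agent.H358.Fus

open Cfsg.Agent.H358.TwoTransMod4

variable {G : Type*} [Group G]

section

variable {S T : Subgroup G} {a z₀ : G}

theorem cs_le (S : Subgroup G) (y : G) : cs S y ≤ S := inf_le_left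

theorem kl_same (h : Dat S T a z₀) (h4 : ∀ t ∈ T, t ∈ cen S ∨ a⁻¹ * t ∈ cen S) {s t : G} (hs : s ∈ S)
    (hsc : s ∉ cen S) (ht : t ∈ S) (htc : t ∉ cen S) (hc : s * t = t * s) : s⁻¹ * t ∈ cen S := by
  by_cases hsT : s ∈ T
  · by_cases htT : t ∈ T
    · have h1 := (h4 s hsT).resolve_left hsc
      have h2 := (h4 t htT).resolve_left htc
      have := (cen S).mul_mem ((cen S).inv_mem h1) h2
      have h3 : (a⁻¹ * s)⁻¹ * (a⁻¹ * t) = s⁻¹ * t := by group
      rwa [h3] at this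
    · exact absurd (h.mem_cen_of_comm hsT ht htT hc.symm) hsc
  · by_cases htT : t ∈ T
    · exact absurd (h.mem_cen_of_comm htT hs hsT hc) htc
    · exact ((h.cs_cases hs hsT ht hc.symm).resolve_left htc).2

theorem kl_comm (h : Dat S T a z₀) (h4 : ∀ t ∈ T, t ∈ cen S ∨ a⁻¹ * t ∈ cen S) {x y : G} (hx : x ∈ S)
    (hy : y ∈ S) : x * y * x⁻¹ = y ∨ x * y * x⁻¹ = y * z₀ := by
  have hzc := (mem_cen.1 h.z₀_cen).2
  -- the case `y ∈ T`
  have key : ∀ x ∈ S, ∀ y ∈ T, x * y * x⁻¹ = y ∨ x * y * x⁻¹ = y * z₀ := by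
    intro x hx y hy
    rcases h4 y hy with h1 | h1
    · left; rw [(mem_cen.1 h1).2 x hx]; group
    · by_cases hxT : x ∈ T
      · left; rw [h.comm _ hxT _ hy]; group
      · right
        have h2 := h.conj_t₀ x hx hxT
        have h3 := (mem_cen.1 h1).2 x hx
        have h5 := (mem_cen.1 h1).2 _ (mem_cen.1 h.z₀_cen).1
        calc x * y * x⁻¹ = (x * a * x⁻¹) * (x * (a⁻¹ * y) * x⁻¹) := by group
          _ = (a * z₀) * (a⁻¹ * y) := by rw [h2, h3]; group
          _ = a * (z₀ * (a⁻¹ * y)) := by group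
          _ = y * z₀ := by rw [h5]; group
  by_cases hyT : y ∈ T
  · exact key x hx y hyT
  · by_cases hxT : x ∈ T
    · rcases key y hy x hxT with h1 | h1
      · left
        calc x * y * x⁻¹ = x * (y * x * y⁻¹)⁻¹ * y := by group
          _ = y := by rw [h1]; group
      · right
        have h2 := hzc y hy
        calc x * y * x⁻¹ = x * (y * x * y⁻¹)⁻¹ * y := by group
          _ = x * z₀⁻¹ * x⁻¹ * y := by rw [h1]; group
          _ = (x * z₀) * x⁻¹ * y := by rw [h.z₀_inv]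
          _ = z₀ * y := by rw [hzc x hx]; group
          _ = y * z₀ := by rw [h2]
    · -- `x = y t`
      have ht : y⁻¹ * x ∈ T := h.inv_mul_mem hy hyT hx hxT
      rcases key y hy _ ht with h1 | h1
      · left
        calc x * y * x⁻¹ = (y * (y⁻¹ * x) * y⁻¹) * y * (y * (y⁻¹ * x)⁻¹ * y⁻¹) := by group
          _ = (y * (y⁻¹ * x) * y⁻¹) * y * (y * (y⁻¹ * x) * y⁻¹)⁻¹ := by group
          _ = (y⁻¹ * x) * y * (y⁻¹ * x)⁻¹ := by rw [h1]
          _ = (y⁻¹ * x) * (y * (y⁻¹ * x) * y⁻¹)⁻¹ * y := by group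
          _ = y := by rw [h1]; group
      · right
        have h2 := hzc y hy
        have h3 := hzc _ (h.le ht)
        have e1 : (y⁻¹ * x) * y * (y⁻¹ * x)⁻¹ = y * z₀ := by
          calc (y⁻¹ * x) * y * (y⁻¹ * x)⁻¹ = (y⁻¹ * x) * (y * (y⁻¹ * x) * y⁻¹)⁻¹ * y := by group
            _ = (y⁻¹ * x) * z₀⁻¹ * (y⁻¹ * x)⁻¹ * y := by rw [h1]; group
            _ = ((y⁻¹ * x) * z₀) * (y⁻¹ * x)⁻¹ * y := by rw [h.z₀_inv]
            _ = z₀ * y := by rw [h3]; group
            _ = y * z₀ := by rw [h2]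
        calc x * y * x⁻¹ = y * ((y⁻¹ * x) * y * (y⁻¹ * x)⁻¹) * y⁻¹ := by group
          _ = y * (y * z₀) * y⁻¹ := by rw [e1]
          _ = y * (z₀ * y) * y⁻¹ := by rw [h2]
          _ = y * z₀ := by group

theorem kl_dat (h : Dat S T a z₀) (h4 : ∀ t ∈ T, t ∈ cen S ∨ a⁻¹ * t ∈ cen S) {s : G} (hs : s ∈ S)
    (hsc : s ∉ cen S) : Dat S (cs S s) s z₀ := by
  have hzc := (mem_cen.1 h.z₀_cen).2
  have hzS := (mem_cen.1 h.z₀_cen).1
  have hmv : ∀ x ∈ S, x ∉ cs S s → x * s * x⁻¹ = s * z₀ := by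
    intro x hx hxs
    rcases kl_comm h h4 hx hs with h1 | h1
    · exfalso
      apply hxs
      rw [mem_cs]
      refine ⟨hx, ?_⟩
      calc x * s = x * s * x⁻¹ * x := by group
        _ = s * x := by rw [h1]
    · exact h1
  have hin : ∀ t ∈ cs S s, t ∈ cen S ∨ s⁻¹ * t ∈ cen S := by
    intro t ht
    by_cases htc : t ∈ cen S
    · exact Or.inl htc
    · rw [mem_cs] at ht
      exact Or.inr (kl_same h h4 hs hsc ht.1 htc ht.2.symm)
  refine ⟨⟨inf_le_left, ?_, ?_, ?_, h.na⟩, h.two, self_mem_cs hs, h.z₀_cen, h.z₀_ne, h.z₀_sq, hmv, ?_, ?_⟩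
  · intro x hx y hy hxs hys
    rw [mem_cs]
    refine ⟨S.mul_mem hx hy, ?_⟩
    have h1 := hmv x hx hxs
    have h2 := hmv y hy hys
    have h3 : x * z₀ * x⁻¹ = z₀ := by rw [hzc x hx]; group
    have : x * y * s * (x * y)⁻¹ = s := by
      calc x * y * s * (x * y)⁻¹ = x * (y * s * y⁻¹) * x⁻¹ := by group
        _ = (x * s * x⁻¹) * (x * z₀ * x⁻¹) := by rw [h2]; group
        _ = s * (z₀ * z₀) := by rw [h1, h3]; group
        _ = s := by rw [h.z₀_sq]; group
    calc x * y * s = x * y * s * (x * y)⁻¹ * (x * y) := by group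
      _ = s * (x * y) := by rw [this]
  · by_contra hne
    push Not at hne
    apply hsc
    rw [mem_cen]
    exact ⟨hs, fun x hx => (mem_cs.1 (hne x hx)).2⟩
  · intro x hx y hy
    rcases hin x hx with h1 | h1
    · exact ((mem_cen.1 h1).2 y (mem_cs.1 hy).1).symm
    · have h2 := (mem_cen.1 h1).2 y (mem_cs.1 hy).1
      have h3 := (mem_cs.1 hy).2
      calc x * y = s * ((s⁻¹ * x) * y) := by group
        _ = s * (y * (s⁻¹ * x)) := by rw [h2]
        _ = (s * y) * (s⁻¹ * x) := by group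
        _ = (y * s) * (s⁻¹ * x) := by rw [h3]
        _ = y * x := by group
  · by_cases hsT : s ∈ T
    · rcases h4 s hsT with h1 | h1
      · exact (cen S).mul_mem h1 h1
      · have h2 := (mem_cen.1 h1).2 _ (h.le h.t₀_mem)
        have : s * s = (a * a) * ((a⁻¹ * s) * (a⁻¹ * s)) := by
          calc s * s = a * ((a⁻¹ * s) * a) * (a⁻¹ * s) := by group
            _ = a * (a * (a⁻¹ * s)) * (a⁻¹ * s) := by rw [h2]
            _ = _ := by group
        rw [this]
        exact (cen S).mul_mem h.t₀_sq ((cen S).mul_mem h1 h1)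
    · exact h.sq_mem hs hsT
  · intro t ht _ _ _ _
    exact hin t ht

end

section

variable [Finite G] {S T : Subgroup G} {a z₀ : G}

theorem kl_card (h : Dat S T a z₀) (h4 : ∀ t ∈ T, t ∈ cen S ∨ a⁻¹ * t ∈ cen S) {s : G} (hs : s ∈ S)
    (hsc : s ∉ cen S) : Nat.card (cs S s) = 2 * Nat.card (cen S) := by
  have h1 := kl_dat h h4 hs hsc
  obtain ⟨w, hw, hws⟩ := h1.ne
  have hwc : w ∉ cen S := fun hwc => hws (h1.cen_le hwc)
  have h2 := kl_dat h h4 hw hwc
  apply h2.card_cs hs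
  intro hsw
  apply hws
  rw [mem_cs] at hsw ⊢
  exact ⟨hw, hsw.2.symm⟩

/-- An abelian subgroup of `S` of order `2 |Z(S)|`. -/
theorem kl_eq (h : Dat S T a z₀) (h4 : ∀ t ∈ T, t ∈ cen S ∨ a⁻¹ * t ∈ cen S) {A : Subgroup G} (hA : A ≤ S)
    (hAc : ∀ x ∈ A, ∀ y ∈ A, x * y = y * x) (hcard : Nat.card A = 2 * Nat.card (cen S)) {e : G} (he : e ∈ A)
    (hec : e ∉ cen S) : A = cs S e := by
  apply Subgroup.eq_of_le_of_card_ge
  · intro x hx
    rw [mem_cs]
    exact ⟨hA hx, hAc _ hx _ he⟩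
  · rw [hcard, kl_card h h4 (hA he) hec]

theorem kl_exists {A : Subgroup G}
    (hcard : Nat.card A = 2 * Nat.card (cen S)) : ∃ e ∈ A, e ∉ cen S := by
  by_contra hne
  push Not at hne
  have h1 : Nat.card A ≤ Nat.card (cen S) := Subgroup.card_le_of_le hne
  have h2 : 0 < Nat.card (cen S) := Nat.card_pos
  omega

theorem cj_comm {A : Subgroup G} {g : G} (hAc : ∀ x ∈ A, ∀ y ∈ A, x * y = y * x) :
    ∀ x ∈ cj g A, ∀ y ∈ cj g A, x * y = y * x := by
  intro x hx y hy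
  rw [mem_cj] at hx hy
  have := hAc _ hx _ hy
  calc x * y = g * (g⁻¹ * x * g * (g⁻¹ * y * g)) * g⁻¹ := by group
    _ = y * x := by rw [this]; group

end

/-- `A` is the image of an escape. -/
def Bad (S A : Subgroup G) : Prop :=
  ∃ v g y, y ∈ S ∧ y ∉ cen S ∧ v ∈ cen S ∧ g * y * g⁻¹ = v ∧ cj g (cs S y) = A

theorem bad_source [Finite G] {S T : Subgroup G} {a z₀ : G} (h : Dat S T a z₀)
    (h4 : ∀ t ∈ T, t ∈ cen S ∨ a⁻¹ * t ∈ cen S) {v g y : G} (hy : y ∈ S) (hyc : y ∉ cen S) (hv : v ∈ cen S)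
    (hg : g * y * g⁻¹ = v) (hle : cj g (cs S y) ≤ S) : Bad S (cs S y) := by
  have h1 : ∃ x ∈ cj g (cen S), x ∉ cen S := by
    by_contra hne
    push Not at hne
    have h2 := cj_eq_of_le (show cj g (cen S) ≤ cen S from hne)
    apply hyc
    rw [← h2] at hv
    rw [← hg, conj_mem_cj] at hv
    exact hv
  obtain ⟨x, hx, hxc⟩ := h1
  have hx' : x ∈ cj g (cs S y) := cj_mono (cen_le_cs hy) hx
  have h2 : cj g (cs S y) = cs S x := by
    apply kl_eq h h4 hle (cj_comm (kl_dat h h4 hy hyc).comm) _ hx' hxc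
    rw [card_cj, kl_card h h4 hy hyc]
  refine ⟨g⁻¹ * x * g, g⁻¹, x, hle hx', hxc, mem_cj.1 hx, by group, ?_⟩
  rw [← h2, cj_inv_cj]

theorem bad_elim [Finite G] (S : Sylow 2 G) {T : Subgroup G} {a z₀ : G} (h : Dat (S : Subgroup G) T a z₀)
    (h4 : ∀ t ∈ T, t ∈ cen (S : Subgroup G) ∨ a⁻¹ * t ∈ cen (S : Subgroup G)) {A : Subgroup G}
    (hA : A ≤ (S : Subgroup G)) (hb : Bad (S : Subgroup G) A) :
    (∃ e ∈ A, e ∉ cen (S : Subgroup G) ∧ e * e = 1) ∧ ∀ c ∈ cen (S : Subgroup G), c * c ≠ z₀ := by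
  obtain ⟨v, g, y, hy, hyc, hv, hg, hgA⟩ := hb
  have hcA : Nat.card A = 2 * Nat.card (cen (S : Subgroup G)) := by
    rw [← hgA, card_cj, kl_card h h4 hy hyc]
  have hAc : ∀ x ∈ A, ∀ y ∈ A, x * y = y * x := by
    rw [← hgA]; exact cj_comm (kl_dat h h4 hy hyc).comm
  obtain ⟨e, he, hec⟩ := kl_exists hcA
  have hAe := kl_eq h h4 hA hAc hcA he hec
  have heS := hA he
  -- the third subgroup
  have hw : ∃ w ∈ (S : Subgroup G), y ∉ cs (S : Subgroup G) w ∧ e ∉ cs (S : Subgroup G) w := by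
    by_cases hye : y * e = e * y
    · obtain ⟨w, hw, hwA⟩ := (kl_dat h h4 hy hyc).ne
      refine ⟨w, hw, ?_, ?_⟩
      · intro h1
        apply hwA
        rw [mem_cs] at h1 ⊢
        exact ⟨hw, h1.2.symm⟩
      · intro h1
        apply hwA
        rw [mem_cs] at h1 ⊢
        refine ⟨hw, ?_⟩
        have h2 := kl_same h h4 hy hyc heS hec hye
        have h3 := (mem_cen.1 h2).2 w hw
        calc w * y = (w * e) * (y⁻¹ * e)⁻¹ := by group
          _ = (e * w) * (y⁻¹ * e)⁻¹ := by rw [h1.2]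
          _ = e * (y⁻¹ * e)⁻¹ * ((y⁻¹ * e) * w) * (y⁻¹ * e)⁻¹ := by group
          _ = y * w := by rw [← h3]; group
    · refine ⟨y * e, S.mul_mem hy heS, ?_, ?_⟩
      · intro h1
        apply hye
        rw [mem_cs] at h1
        have := h1.2
        calc y * e = y⁻¹ * (y * (y * e)) := by group
          _ = y⁻¹ * (y * e * y) := by rw [this]
          _ = e * y := by group
      · intro h1
        apply hye
        rw [mem_cs] at h1
        have := h1.2
        calc y * e = (y * e * e) * e⁻¹ := by group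
          _ = (e * (y * e)) * e⁻¹ := by rw [this]
          _ = e * y := by group
  obtain ⟨w, hwS, hyw, hew⟩ := hw
  have hwc : w ∉ cen (S : Subgroup G) := by
    intro h1
    apply hyw
    rw [mem_cs]
    exact ⟨hy, (mem_cen.1 h1).2 y hy⟩
  have hd := kl_dat h h4 hwS hwc
  have x : Exit (S : Subgroup G) (cs (S : Subgroup G) w) v g y :=
    ⟨hy, hyw, hv, hg, by rw [hgA]; exact hA, e, by rw [hgA]; exact he, hew⟩
  have h5 := Exit.gz_mem hd x
  refine ⟨⟨g * z₀ * g⁻¹, ?_, ?_, h5.2.2.1⟩, ?_⟩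
  · rw [← hgA, h5.2.2.2]; exact self_mem_cs h5.1
  · intro h6
    exact h5.2.1 (hd.cen_le h6)
  · intro c hc hcz
    exact hd.no_exit S hc hcz x

theorem Ab2.prank_small [Finite G] [IsSimpleGroup G] (S : Sylow 2 G) {T : Subgroup G} (hab : Ab2 (S : Subgroup G) T)
    (hno : ∀ M : Subgroup G, M.index ≠ 2)
    {a : G} (ha : a ∈ T) (hcyc : ∀ t ∈ T, ∃ k : ℕ, ∃ z ∈ cen (S : Subgroup G), t = a ^ k * z)
    (ha2 : a * a ∈ cen (S : Subgroup G)) : Cfsg.PRankLE 2 2 G := by
  obtain ⟨k, hk0, hks, hkn, z₀, h⟩ := hab.exists_dat S.isPGroup' ha hcyc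
  have hk1 : k = 1 := by
    by_contra hk
    apply hkn
    obtain ⟨m, rfl⟩ : ∃ m, k = m + 2 := ⟨k - 2, by omega⟩
    have : a ^ 2 ^ (m + 2 - 1) = (a * a) ^ 2 ^ m := by
      rw [← pow_two, ← pow_mul]
      congr 1
      have : m + 2 - 1 = m + 1 := by omega
      rw [this, pow_succ]; ring
    rw [this]
    exact (cen (S : Subgroup G)).pow_mem ha2 _
  subst hk1
  have haa : a ^ 2 ^ (1 - 1) = a := by simp
  rw [haa] at h hkn
  have h4 : ∀ t ∈ T, t ∈ cen (S : Subgroup G) ∨ a⁻¹ * t ∈ cen (S : Subgroup G) := by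
    intro t ht
    obtain ⟨k, z, hz, hk⟩ := hcyc t ht
    rcases Nat.even_or_odd k with ⟨m, hm⟩ | ⟨m, hm⟩
    · left
      rw [hk, hm, pow_add, ← (Commute.refl a).mul_pow]
      exact (cen (S : Subgroup G)).mul_mem ((cen (S : Subgroup G)).pow_mem ha2 _) hz
    · right
      have : a⁻¹ * t = (a * a) ^ m * z := by
        rw [hk, hm, pow_succ', pow_mul, pow_two]; group
      rw [this]
      exact (cen (S : Subgroup G)).mul_mem ((cen (S : Subgroup G)).pow_mem ha2 _) hz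
  -- some subgroup is not bad
  have hex : ∃ s ∈ (S : Subgroup G), s ∉ cen (S : Subgroup G) ∧ ¬ Bad (S : Subgroup G) (cs (S : Subgroup G) s) := by
    by_contra hne
    push Not at hne
    obtain ⟨y, hy, hyT⟩ := h.ne
    have hyc : y ∉ cen (S : Subgroup G) := fun hc => hyT (h.cen_le hc)
    have haS := h.le ha
    have hya : ¬ (a * y = y * a) := by
      intro h1
      exact hkn (h.mem_cen_of_comm ha hy hyT h1.symm)
    have hayc : a * y ∉ cen (S : Subgroup G) := by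
      intro h1
      apply hya
      have := (mem_cen.1 h1).2 y hy
      calc a * y = (a * y * y) * y⁻¹ := by group
        _ = y * a := by rw [← this]; group
    obtain ⟨⟨e₁, he₁, hec₁, hee₁⟩, hno'⟩ := bad_elim S h h4 (cs_le _ _) (hne a haS hkn)
    obtain ⟨⟨e₂, he₂, hec₂, hee₂⟩, -⟩ := bad_elim S h h4 (cs_le _ _) (hne y hy hyc)
    obtain ⟨⟨e₃, he₃, hec₃, hee₃⟩, -⟩ := bad_elim S h h4 (cs_le _ _) (hne _ (S.mul_mem haS hy) hayc)
    rw [mem_cs] at he₁ he₂ he₃
    have f₁ := kl_same h h4 haS hkn he₁.1 hec₁ he₁.2.symm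
    have f₂ := kl_same h h4 hy hyc he₂.1 hec₂ he₂.2.symm
    have f₃ := kl_same h h4 (S.mul_mem haS hy) hayc he₃.1 hec₃ he₃.2.symm
    -- `e₁ e₂ = c e₃`
    set c₁ := a⁻¹ * e₁ with hc₁
    set c₂ := y⁻¹ * e₂ with hc₂
    set c₃ := (a * y)⁻¹ * e₃ with hc₃
    have E₁ : e₁ = a * c₁ := by rw [hc₁]; group
    have E₂ : e₂ = y * c₂ := by rw [hc₂]; group
    have E₃ : e₃ = a * y * c₃ := by rw [hc₃]; group
    have hc : c₁ * c₂ * c₃⁻¹ ∈ cen (S : Subgroup G) :=
      (cen (S : Subgroup G)).mul_mem ((cen (S : Subgroup G)).mul_mem f₁ f₂) ((cen (S : Subgroup G)).inv_mem f₃)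
    set c := c₁ * c₂ * c₃⁻¹ with hcdef
    have hcc := (mem_cen.1 hc).2
    have hE : e₁ * e₂ = e₃ * c := by
      have g1 := (mem_cen.1 f₁).2 y hy
      have g2 := (mem_cen.1 f₃).2 c₁ (mem_cen.1 f₁).1
      have g3 := (mem_cen.1 f₃).2 c₂ (mem_cen.1 f₂).1
      calc e₁ * e₂ = a * (c₁ * y) * c₂ := by rw [E₁, E₂]; group
        _ = a * (y * c₁) * c₂ := by rw [g1]
        _ = a * y * (c₁ * (c₂ * c₃)) * c₃⁻¹ := by group
        _ = a * y * (c₁ * (c₃ * c₂)) * c₃⁻¹ := by rw [g3]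
        _ = a * y * ((c₁ * c₃) * c₂) * c₃⁻¹ := by group
        _ = a * y * ((c₃ * c₁) * c₂) * c₃⁻¹ := by rw [g2]
        _ = e₃ * c := by rw [E₃, hcdef]; group
    have hsq : (e₁ * e₂) * (e₁ * e₂) = c * c := by
      rw [hE]
      calc e₃ * c * (e₃ * c) = e₃ * (c * e₃) * c := by group
        _ = e₃ * (e₃ * c) * c := by rw [hcc _ he₃.1]
        _ = (e₃ * e₃) * (c * c) := by group
        _ = c * c := by rw [hee₃]; group
    have i₁ : e₁⁻¹ = e₁ := by rw [inv_eq_iff_mul_eq_one]; exact hee₁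
    have i₂ : e₂⁻¹ = e₂ := by rw [inv_eq_iff_mul_eq_one]; exact hee₂
    rcases kl_comm h h4 he₁.1 he₂.1 with h5 | h5
    · -- commute
      have h6 : e₁ * e₂ = e₂ * e₁ := by
        calc e₁ * e₂ = e₁ * e₂ * e₁⁻¹ * e₁ := by group
          _ = e₂ * e₁ := by rw [h5]
      have h7 := kl_same h h4 he₁.1 hec₁ he₂.1 hec₂ h6
      apply hya
      -- `a⁻¹ y ∈ cen`
      have h8 : a⁻¹ * y ∈ cen (S : Subgroup G) := by
        have g1 := (mem_cen.1 h7).2 c₁⁻¹ (mem_cen.1 ((cen (S : Subgroup G)).inv_mem f₁)).1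
        have : a⁻¹ * y = c₁ * (e₁⁻¹ * e₂) * c₂⁻¹ := by rw [E₁, E₂]; group
        rw [this]
        exact (cen (S : Subgroup G)).mul_mem ((cen (S : Subgroup G)).mul_mem f₁ h7)
          ((cen (S : Subgroup G)).inv_mem f₂)
      have h9 := (mem_cen.1 h8).2 a haS
      calc a * y = a * (a * (a⁻¹ * y)) := by group
        _ = a * ((a⁻¹ * y) * a) := by rw [h9]
        _ = y * a := by group
    · apply hno' c hc
      rw [← hsq]
      calc (e₁ * e₂) * (e₁ * e₂) = e₁ * e₂ * e₁⁻¹ * e₂ := by rw [i₁]; group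
        _ = e₂ * (z₀ * e₂) := by rw [h5]; group
        _ = e₂ * (e₂ * z₀) := by rw [(mem_cen.1 h.z₀_cen).2 _ he₂.1]
        _ = (e₂ * e₂) * z₀ := by group
        _ = z₀ := by rw [hee₂]; group
  obtain ⟨s, hs, hsc, hnb⟩ := hex
  have hd := kl_dat h h4 hs hsc
  have h5 := hd.cen_invol hno S (self_mem_cs hs) (a := s) ?_ (hd.burnside S) ?_
  · -- the rank
    apply prank_of_sylow S
    intro A hA hAc hA2
    by_cases hAcen : A ≤ cen (S : Subgroup G)
    · have h6 : Nat.card A ≤ 2 := by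
        apply card_le_two (z := z₀)
        intro x hx
        exact h5 x (hAcen hx) (hA2 x hx)
      omega
    · obtain ⟨x, hx, hxc⟩ := Set.not_subset.1 hAcen
      have hdx := kl_dat h h4 (hA hx) hxc
      obtain ⟨w, hw, hwx⟩ := hdx.ne
      have hwc : w ∉ cen (S : Subgroup G) := fun hc => hwx (hdx.cen_le hc)
      have hdw := kl_dat h h4 hw hwc
      have h6 := (card_le_two_mul_inf hdw.toAb2 hA).1
      have h7 : Nat.card ↥(A ⊓ cs (S : Subgroup G) w) ≤ 2 := by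
        apply card_le_two (z := z₀)
        intro u hu
        refine h5 u ?_ (hA2 u hu.1)
        by_contra huc
        have hu2 := mem_cs.1 hu.2
        have g1 := kl_same h h4 (hA hx) hxc hu2.1 huc (hAc _ hx _ hu.1)
        have g2 := kl_same h h4 hw hwc hu2.1 huc hu2.2.symm
        apply hwx
        rw [mem_cs]
        refine ⟨hw, ?_⟩
        have g3 : x⁻¹ * w ∈ cen (S : Subgroup G) := by
          have : x⁻¹ * w = (x⁻¹ * u) * (w⁻¹ * u)⁻¹ := by group
          rw [this]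
          exact (cen (S : Subgroup G)).mul_mem g1 ((cen (S : Subgroup G)).inv_mem g2)
        have g4 := (mem_cen.1 g3).2 x (hA hx)
        calc w * x = x * ((x⁻¹ * w) * x) := by group
          _ = x * (x * (x⁻¹ * w)) := by rw [g4]
          _ = x * w := by group
      omega
  · intro t ht
    by_cases htc : t ∈ cen (S : Subgroup G)
    · exact ⟨0, t, htc, by simp⟩
    · rw [mem_cs] at ht
      exact ⟨1, s⁻¹ * t, kl_same h h4 hs hsc ht.1 htc ht.2.symm, by group⟩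
  · intro v hv hv2 hv1
    obtain ⟨y, hy, hyc, g, hg, hle⟩ := h.escape S hv hv1
    refine ⟨g, y, hy, ?_, hv, hg, hle, ?_⟩
    · intro hys
      apply hnb
      have : cs (S : Subgroup G) s = cs (S : Subgroup G) y := by
        apply kl_eq h h4 inf_le_left hd.comm (kl_card h h4 hs hsc) hys hyc
      rw [this]
      exact bad_source h h4 hy hyc hv hg hle
    · by_contra hne
      push Not at hne
      apply hnb
      refine ⟨v, g, y, hy, hyc, hv, hg, ?_⟩
      apply Subgroup.eq_of_le_of_card_ge hne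
      rw [card_cj, kl_card h h4 hy hyc, kl_card h h4 hs hsc]

/-- **Fusion theorem**: a finite simple group whose Sylow `2`-subgroup `S` is nonabelian and has an abelian
subgroup `T` of index two with `T / Z(S)` cyclic has `2`-rank at most two. -/
theorem Ab2.prank [Finite G] [IsSimpleGroup G] (S : Sylow 2 G) {T : Subgroup G} (hab : Ab2 (S : Subgroup G) T)
    (hno : ∀ M : Subgroup G, M.index ≠ 2)
    {a : G} (ha : a ∈ T) (hcyc : ∀ t ∈ T, ∃ k : ℕ, ∃ z ∈ cen (S : Subgroup G), t = a ^ k * z) :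
    Cfsg.PRankLE 2 2 G := by
  by_cases ha2 : a * a ∈ cen (S : Subgroup G)
  · exact hab.prank_small S hno ha hcyc ha2
  · exact hab.prank_large S hno ha hcyc ha2

end Cfsg.Agent.H358.Fus
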