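import Cfsg.Agent.H358.HypA
import Cfsg.Agent.S0111
import Cfsg.Agent.S0112
import Cfsg.Agent.S0113
import Cfsg.Agent.Lib.NormalAbelian

/-!
# Maximal class (helper358)
-/

set_option autoImplicit false
set_option linter.unusedSectionVars false

namespace Cfsg.Agent.H358.Perm

open MulAction Pointwise
open Cfsg.Agent.H358.TwoTransMod4
open Cfsg.Agent.H358.Fus

/-- A cyclic group has at most one involution. -/
theorem cyc_uniq {G : Type*} [Group G] [Finite G] {C : Subgroup G} (hC : IsCyclic C) {y z : G} (hy : y ∈ C)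
    (hz : z ∈ C) (hy2 : y * y = 1) (hz2 : z * z = 1) (hy1 : y ≠ 1) (hz1 : z ≠ 1) : y = z := by
  classical
  by_contra hyz
  have := Fintype.ofFinite C
  have h1 := IsCyclic.card_pow_eq_one_le (α := C) (n := 2) (by norm_num)
  have h2 : ({1, ⟨y, hy⟩, ⟨z, hz⟩} : Finset C) ⊆ Finset.univ.filter (fun a : C => a ^ 2 = 1) := by
    intro w hw
    simp only [Finset.mem_insert, Finset.mem_singleton] at hw
    rw [Finset.mem_filter]
    refine ⟨Finset.mem_univ _, ?_⟩
    rcases hw with rfl | rfl | rfl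
    · exact one_pow 2
    · exact Subtype.ext (by simpa [pow_two] using hy2)
    · exact Subtype.ext (by simpa [pow_two] using hz2)
  have h3 := (Finset.card_le_card h2).trans h1
  have h4 : ({1, ⟨y, hy⟩, ⟨z, hz⟩} : Finset C).card = 3 := by
    rw [Finset.card_eq_three]
    refine ⟨1, ⟨y, hy⟩, ⟨z, hz⟩, ?_, ?_, ?_, rfl⟩
    · intro h; exact hy1 (congrArg Subtype.val h).symm
    · intro h; exact hz1 (congrArg Subtype.val h).symm
    · intro h; exact hyz (congrArg Subtype.val h)
  omega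

/-- A nontrivial normal subgroup of a `2`-group meets the centre. -/
theorem exists_cen {G : Type*} [Group G] [Finite G] {S R : Subgroup G} (hS : IsPGroup 2 S) (hR : R ≤ S)
    (hne : R ≠ ⊥) (hn : ∀ s ∈ S, ∀ r ∈ R, s * r * s⁻¹ ∈ R) : ∃ z ∈ R, z ≠ 1 ∧ z ∈ cen S := by
  have : Fact (Nat.Prime 2) := ⟨Nat.prime_two⟩
  have hnil : Group.IsNilpotent S := hS.isNilpotent
  have hN : (R.subgroupOf S).Normal := by
    constructor
    intro r hr s
    exact hn s s.2 r hr
  have h1 : R.subgroupOf S ≠ ⊥ := by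
    intro h
    rw [Subgroup.subgroupOf_eq_bot, disjoint_iff, inf_eq_left.2 hR] at h
    exact hne h
  have h2 := Cfsg.Agent.Lib.NormalAbelian.normal_inf_center_ne_bot (R.subgroupOf S) h1
  obtain ⟨⟨z, hz⟩, hz1'⟩ := (Subgroup.ne_bot_iff_exists_ne_one).1 h2
  have hz1 : z ≠ 1 := fun h => hz1' (Subtype.ext h)
  refine ⟨z, hz.1, fun h => hz1 (Subtype.ext h), ?_⟩
  rw [mem_cen]
  refine ⟨z.2, fun s hs => ?_⟩
  have := Subgroup.mem_center_iff.1 hz.2 ⟨s, hs⟩
  exact congrArg Subtype.val this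

/-- A `2`-group with a self-centralizing four-group. -/
theorem exists_cyc {G : Type*} [Group G] [Finite G] {S : Subgroup G} (hS : IsPGroup 2 S)
    (hna : ∃ a ∈ S, ∃ b ∈ S, a * b ≠ b * a) {x : G} (hx : x ∈ S) (hx1 : x ≠ 1) (hx2 : x * x = 1)
    (h4 : Nat.card (cs S x) ≤ 4) : ∃ C : Subgroup G, Ab2 S C ∧ IsCyclic C ∧ x ∉ C := by
  have : Fact (Nat.Prime 2) := ⟨Nat.prime_two⟩
  set A : Subgroup S := Subgroup.centralizer ({⟨x, hx⟩} : Set S) with hA
  have hmA : ∀ s : S, s ∈ A ↔ (s : G) * x = x * s := by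
    intro s
    rw [hA, Subgroup.mem_centralizer_iff]
    constructor
    · intro h
      exact (congrArg Subtype.val (h _ rfl)).symm
    · rintro h _ rfl
      exact Subtype.ext h.symm
  have hcA : Nat.card A = Nat.card (cs S x) := by
    refine Nat.card_congr ⟨fun s => ⟨s.1.1, mem_cs.2 ⟨s.1.2, (hmA s.1).1 s.2⟩⟩,
      fun s => ⟨⟨s.1, (mem_cs.1 s.2).1⟩, (hmA _).2 (mem_cs.1 s.2).2⟩, fun _ => rfl, fun _ => rfl⟩
  have hxc : x ∉ cen S := by
    intro hc
    have h1 : cs S x = S := by
      apply le_antisymm inf_le_left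
      intro s hs
      exact mem_cs.2 ⟨hs, (mem_cen.1 hc).2 s hs⟩
    rw [h1] at h4
    obtain ⟨k, hk⟩ := IsPGroup.iff_card.1 hS
    have hk3 : k ≤ 2 := by
      by_contra hlt
      have : 2 ^ 3 ≤ 2 ^ k := Nat.pow_le_pow_right (by norm_num) (by omega)
      omega
    obtain ⟨a, ha, b, hb, hab⟩ := hna
    apply hab
    have hcomm : ∀ p q : S, p * q = q * p := by
      have h5 : k = 0 ∨ k = 1 ∨ k = 2 := by omega
      rcases h5 with rfl | rfl | rfl
      · have : Subsingleton S := by
          rw [← Finite.card_le_one_iff_subsingleton, hk]; norm_num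
        exact fun p q => Subsingleton.elim _ _
      · have hcyc : IsCyclic S := isCyclic_of_prime_card (p := 2) (by rw [hk, pow_one])
        exact fun p q => (IsCyclic.commGroup (α := S)).mul_comm p q
      · have := IsPGroup.isMulCommutative_of_card_eq_prime_sq hk
        exact fun p q => this.is_comm.comm p q
    exact congrArg Subtype.val (hcomm ⟨a, ha⟩ ⟨b, hb⟩)
  -- the order of the centralizer
  have hA4 : Nat.card A = 2 ^ 2 := by
    obtain ⟨k, hk⟩ := IsPGroup.iff_card.1 (hS.to_subgroup A)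
    have hk3 : k ≤ 2 := by
      by_contra hlt
      have : 2 ^ 3 ≤ 2 ^ k := Nat.pow_le_pow_right (by norm_num) (by omega)
      omega
    have hne : S ≠ ⊥ := by
      rintro rfl
      exact hx1 (Subgroup.mem_bot.1 hx)
    obtain ⟨z, hz, hz1, hzc⟩ := exists_cen hS le_rfl hne (fun s hs r hr => S.mul_mem (S.mul_mem hs hr) (S.inv_mem hs))
    have hxA : (⟨x, hx⟩ : S) ∈ A := (hmA _).2 rfl
    have hzA : (⟨z, hz⟩ : S) ∈ A := (hmA _).2 ((mem_cen.1 hzc).2 x hx).symm
    have hk2 : 2 ≤ k := by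
      by_contra hlt
      have h5 : Nat.card A ≤ 2 := by
        rw [hk]
        calc 2 ^ k ≤ 2 ^ 1 := Nat.pow_le_pow_right (by norm_num) (by omega)
          _ = 2 := by norm_num
      have h6 : ({⟨1, one_mem _⟩, ⟨_, hxA⟩, ⟨_, hzA⟩} : Set A).ncard ≤ Nat.card A := by
        rw [← Set.ncard_univ]
        exact Set.ncard_le_ncard (Set.subset_univ _)
      rw [Set.ncard_eq_three.2 ⟨_, _, _, ?_, ?_, ?_, rfl⟩] at h6
      · omega
      · intro h
        exact hx1 (congrArg (fun w : A => ((w : S) : G)) h).symm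
      · intro h
        exact hz1 (congrArg (fun w : A => ((w : S) : G)) h).symm
      · intro h
        apply hxc
        have h7 : x = z := congrArg (fun w : A => ((w : S) : G)) h
        rw [h7]; exact hzc
    rw [hk, le_antisymm hk3 hk2]
  have hcomA := IsPGroup.isMulCommutative_of_card_eq_prime_sq hA4
  have hCA : Subgroup.centralizer (A : Set S) = A := by
    apply le_antisymm
    · rw [hA]
      intro s hs
      rw [Subgroup.mem_centralizer_iff] at hs ⊢
      rintro _ rfl
      exact hs _ ((hmA _).2 rfl)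
    · intro s hs
      rw [Subgroup.mem_centralizer_iff]
      intro t ht
      exact congrArg Subtype.val (hcomA.is_comm.comm ⟨t, ht⟩ ⟨s, hs⟩)
  obtain ⟨n, hn⟩ := IsPGroup.iff_card.1 hS
  have hn3 : 3 ≤ n := by
    by_contra hlt
    have h5 := Subgroup.card_mul_index A
    rw [hA4, hn] at h5
    have h6 : 2 ^ n ≤ 2 ^ 2 := Nat.pow_le_pow_right (by norm_num) (by omega)
    have h7 : A.index = 1 := by
      have : A.index ≠ 0 := Subgroup.index_ne_zero_of_finite
      omega
    rw [Subgroup.index_eq_one] at h7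
    apply hxc
    rw [mem_cen]
    refine ⟨hx, fun s hs => ?_⟩
    have : (⟨s, hs⟩ : S) ∈ A := by rw [h7]; trivial
    exact (hmA _).1 this
  have hcl := Cfsg.Agent.S0112.result n hn A hA4 hCA
  obtain ⟨C', hC', hC2⟩ := Cfsg.Agent.S0113.result n hn3 hn hcl
  have hcyc : IsCyclic (C'.map S.subtype) := by
    exact (MulEquiv.isCyclic (C'.equivMapOfInjective S.subtype S.subtype_injective)).1 hC'
  have hmem : ∀ s : S, (s : G) ∈ C'.map S.subtype ↔ s ∈ C' := by
    intro s
    constructor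
    · rintro ⟨t, ht, hts⟩
      rwa [Subtype.ext hts] at ht
    · intro hs; exact ⟨s, hs, rfl⟩
  have hab : Ab2 S (C'.map S.subtype) := by
    refine ⟨Subgroup.map_subtype_le _, ?_, ?_, ?_, hna⟩
    · intro p hp q hq hpC hqC
      have := (Subgroup.mul_mem_iff_of_index_two hC2 (a := ⟨p, hp⟩) (b := ⟨q, hq⟩)).2
        ⟨fun h => absurd ((hmem _).2 h) hpC, fun h => absurd ((hmem _).2 h) hqC⟩
      exact (hmem _).2 this
    · by_contra hcon
      push Not at hcon
      have : C' = ⊤ := by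
        rw [eq_top_iff]
        intro s _
        exact (hmem s).1 (hcon s s.2)
      rw [this, Subgroup.index_top] at hC2
      omega
    · intro p hp q hq
      exact congrArg Subtype.val ((IsCyclic.commGroup (α := ↥(C'.map S.subtype))).mul_comm ⟨p, hp⟩ ⟨q, hq⟩)
  refine ⟨_, hab, hcyc, ?_⟩
  intro hxC
  apply hxc
  rw [mem_cen]
  refine ⟨hx, fun s hs => ?_⟩
  have h8 : s * x * s⁻¹ = x := by
    apply cyc_uniq hcyc (hab.conj_mem hs hxC) hxC _ hx2 _ hx1
    · have : s * x * s⁻¹ * (s * x * s⁻¹) = s * (x * x) * s⁻¹ := by group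
      rw [this, hx2]; group
    · intro h9
      apply hx1
      have : x = s⁻¹ * (s * x * s⁻¹) * s := by group
      rw [this, h9]; group
  calc s * x = s * x * s⁻¹ * s := by group
    _ = x * s := by rw [h8]

end Cfsg.Agent.H358.Perm
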