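import Cfsg.Agent.H358.Perm4
import Cfsg.Agent.S0799
import Cfsg.Agent.ClassicalGeometry.PSL2Solvable

/-!
# Doubly transitive actions of `PSL(2, q)` of degree `2 mod 4` (helper358)
-/

set_option autoImplicit false
set_option linter.unusedSectionVars false

namespace Cfsg.Agent.H358.Perm

open MulAction Matrix
open Cfsg.Agent.ClassicalGeometry.PSL2Basic

/-- arithmetic of the Borel case -/
theorem arith_borel {q n c d e h : ℕ} (hq : 2 ≤ q) (hn : n = (q + 1) * c) (_hd : d = 1 ∨ d = 2)
    (hh : h * c * d = q * (q - 1)) (he : h = (n - 1) * e) (hn2 : 2 < n) : n = q + 1 := by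
  obtain ⟨r, rfl⟩ : ∃ r, q = r + 2 := ⟨q - 2, by omega⟩
  have e1 : r + 2 - 1 = r + 1 := by omega
  rw [e1] at hh
  by_contra hne
  have hc : 2 ≤ c := by
    by_contra hlt
    have : c = 0 ∨ c = 1 := by omega
    rcases this with rfl | rfl
    · omega
    · apply hne; rw [hn]; ring
  obtain ⟨m, hm⟩ : ∃ m, n = m + 1 := ⟨n - 1, by omega⟩
  have e2 : n - 1 = m := by omega
  rw [e2] at he
  set w := e * c * d with hw
  have h1 : m * w = (r + 2) * (r + 1) := by rw [← hh, he, hw]; ring
  have h2 : (m + 1) * w = (r + 2) * (r + 1) + w := by rw [← h1]; ring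
  have h3 : (r + 2 + 1) ∣ (m + 1) * w := by rw [← hm, hn]; exact ⟨c * w, by ring⟩
  rw [h2] at h3
  have h4 : (r + 2) * (r + 1) + w = (r + 2 + 1) * r + (w + 2) := by ring
  rw [h4, Nat.dvd_add_right (Dvd.intro _ rfl)] at h3
  have h5 := Nat.le_of_dvd (by omega) h3
  have h6 : 2 * (r + 3) ≤ m + 1 := by rw [← hm, hn]; nlinarith
  nlinarith

theorem card_borel {F : Type*} [Field F] [Fintype F] :
    Nat.card (Cfsg.Agent.ClassicalGeometry.PSL2Solvable.borel F) = Fintype.card F * (Fintype.card F - 1) := by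
  classical
  let f : Cfsg.Agent.ClassicalGeometry.PSL2Solvable.borel F → F × Fˣ := fun c =>
    ((c : Matrix.SpecialLinearGroup (Fin 2) F) 0 1,
      Units.mk ((c : Matrix.SpecialLinearGroup (Fin 2) F) 0 0) ((c : Matrix.SpecialLinearGroup (Fin 2) F) 1 1)
        (by
          have h0 := Cfsg.Agent.ClassicalGeometry.PSL2Solvable.mem_borel_iff.1 c.2
          have h1 := (c : Matrix.SpecialLinearGroup (Fin 2) F).det_coe
          rw [Matrix.det_fin_two] at h1
          have h2 : ((c : Matrix.SpecialLinearGroup (Fin 2) F) : Matrix (Fin 2) (Fin 2) F) 1 0 = 0 := h0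
          rw [h2, mul_zero, sub_zero] at h1
          exact h1)
        (by
          have h0 := Cfsg.Agent.ClassicalGeometry.PSL2Solvable.mem_borel_iff.1 c.2
          have h1 := (c : Matrix.SpecialLinearGroup (Fin 2) F).det_coe
          rw [Matrix.det_fin_two] at h1
          have h2 : ((c : Matrix.SpecialLinearGroup (Fin 2) F) : Matrix (Fin 2) (Fin 2) F) 1 0 = 0 := h0
          rw [h2, mul_zero, sub_zero, mul_comm] at h1
          exact h1))
  have hf : Function.Bijective f := by
    constructor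
    · intro a b hab
      have h1 : (a : Matrix.SpecialLinearGroup (Fin 2) F) 0 1 = (b : Matrix.SpecialLinearGroup (Fin 2) F) 0 1 :=
        congrArg Prod.fst hab
      have h2 := congrArg Prod.snd hab
      have h3 : (a : Matrix.SpecialLinearGroup (Fin 2) F) 0 0 = (b : Matrix.SpecialLinearGroup (Fin 2) F) 0 0 :=
        congrArg Units.val h2
      have h4 : (a : Matrix.SpecialLinearGroup (Fin 2) F) 1 1 = (b : Matrix.SpecialLinearGroup (Fin 2) F) 1 1 :=
        congrArg (fun u : Fˣ => ((u⁻¹ : Fˣ) : F)) h2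
      apply Subtype.ext
      apply Matrix.SpecialLinearGroup.ext
      intro i j
      fin_cases i <;> fin_cases j
      · exact h3
      · exact h1
      · have ha := Cfsg.Agent.ClassicalGeometry.PSL2Solvable.mem_borel_iff.1 a.2
        have hb := Cfsg.Agent.ClassicalGeometry.PSL2Solvable.mem_borel_iff.1 b.2
        exact ha.trans hb.symm
      · exact h4
    · rintro ⟨x, u⟩
      refine ⟨⟨⟨!![(u : F), x; 0, ((u⁻¹ : Fˣ) : F)], by simp [Matrix.det_fin_two]⟩, ?_⟩, ?_⟩
      · exact Cfsg.Agent.ClassicalGeometry.PSL2Solvable.mem_borel_iff.2 rfl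
      · ext <;> rfl
  rw [Nat.card_congr (Equiv.ofBijective f hf), Nat.card_prod, Nat.card_eq_fintype_card, Nat.card_eq_fintype_card,
    Fintype.card_units]

theorem cube {q : ℕ} (hq : 1 ≤ q) : q * (q ^ 2 - 1) + q = q ^ 3 := by
  have : 1 ≤ q ^ 2 := Nat.one_le_pow _ _ hq
  obtain ⟨m, hm⟩ : ∃ m, q ^ 2 = m + 1 := ⟨q ^ 2 - 1, by omega⟩
  rw [pow_succ q 2, hm]
  have : m + 1 - 1 = m := by omega
  rw [this]; ring

/-- the cyclic and dihedral case -/
theorem arith_a {q n h e d : ℕ} (hq : 2 ≤ q) (hd : (d = 1 ∧ q % 2 = 0) ∨ (d = 2 ∧ q % 2 = 1))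
    (hG : n * h * d = q * (q ^ 2 - 1)) (he : h = (n - 1) * e) (hn : n % 4 = 2) (hn2 : 2 < n)
    (hh : h * d ≤ 2 * (q + 1)) : q = 4 ∧ n = 6 := by
  have hc := cube (show 1 ≤ q by omega)
  have he0 : e ≠ 0 := by
    rintro rfl
    rw [mul_zero] at he
    subst he
    simp at hG
    have : 2 ^ 2 ≤ q ^ 2 := Nat.pow_le_pow_left hq 2
    omega
  have h1 : n ≤ h + 1 := by
    have : 1 ≤ e := by omega
    have : n - 1 ≤ h := by rw [he]; exact Nat.le_mul_of_pos_right _ (by omega)
    omega
  have hq6 : q ≤ 6 := by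
    by_contra hgt
    have h7 : 7 ≤ q := by omega
    have h8 : 7 * q ≤ q * q := Nat.mul_le_mul_right _ h7
    have h9 : 7 * (q * q) ≤ q * (q * q) := Nat.mul_le_mul_right _ h7
    have h10 : q ^ 3 = q * (q * q) := by ring
    rw [h10] at hc
    rcases hd with ⟨rfl, -⟩ | ⟨rfl, -⟩
    · have : n * h ≤ (2 * q + 3) * (2 * q + 2) := by
        apply Nat.mul_le_mul <;> omega
      have h11 : (2 * q + 3) * (2 * q + 2) = 4 * (q * q) + 10 * q + 6 := by ring
      rw [h11] at this
      rw [mul_one] at hG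
      omega
    · have : n * h ≤ (q + 2) * (q + 1) := by
        apply Nat.mul_le_mul <;> omega
      have h11 : (q + 2) * (q + 1) = (q * q) + 3 * q + 2 := by ring
      rw [h11] at this
      omega
  have hh' : h ≤ 14 := by
    rcases hd with ⟨rfl, -⟩ | ⟨rfl, -⟩ <;> omega
  have hn' : n ≤ 15 := by omega
  interval_cases q <;> rcases hd with ⟨rfl, h2⟩ | ⟨rfl, h2⟩ <;> simp at h2 hG <;> interval_cases n <;> omega

/-- the cases `A₄`, `S₄`, `A₅` -/
theorem arith_c {q n h e d : ℕ} (hd : (d = 1 ∧ q % 2 = 0) ∨ (d = 2 ∧ q % 2 = 1)) (hq : 2 ≤ q)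
    (hG : n * h * d = q * (q ^ 2 - 1)) (he : h = (n - 1) * e) (hn : n % 4 = 2) (hn2 : 2 < n)
    (hh : h = 12 ∨ h = 24 ∨ h = 60) : q = 9 ∧ n = 6 := by
  have h0 : (n - 1) ∣ h := ⟨e, he⟩
  have h1 : n - 1 ≤ 60 := by
    have := Nat.le_of_dvd (by omega) h0
    omega
  have hn6 : n = 6 ∧ h = 60 := by
    have : n ≤ 61 := by omega
    rcases hh with rfl | rfl | rfl <;> interval_cases n <;> omega
  obtain ⟨rfl, rfl⟩ := hn6
  have hc := cube (show 1 ≤ q by omega)
  have : q ≤ 9 := by
    by_contra hgt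
    have h10 : 10 ≤ q := by omega
    have : 10 ^ 2 ≤ q ^ 2 := Nat.pow_le_pow_left h10 2
    have : 10 * 99 ≤ q * (q ^ 2 - 1) := Nat.mul_le_mul h10 (by omega)
    rcases hd with ⟨rfl, -⟩ | ⟨rfl, -⟩ <;> omega
  interval_cases q <;> rcases hd with ⟨rfl, h2⟩ | ⟨rfl, h2⟩ <;> simp at h2 hG ⊢

/-- the subfield case -/
theorem arith_d {q n h e d r m k : ℕ} (hd : (d = 1 ∧ q % 2 = 0) ∨ (d = 2 ∧ q % 2 = 1)) (hr : 2 ≤ r)
    (hrm : r ^ m = q) (hm0 : m ≠ 0)
    (hG : n * h * d = q * (q ^ 2 - 1)) (he : h = (n - 1) * e) (hn : n % 4 = 2) (hn2 : 2 < n)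
    (hk : k = 1 ∨ k = d) (hh : h * k = r * (r ^ 2 - 1)) : False := by
  have hq : 2 ≤ q := by
    rw [← hrm]
    calc 2 ≤ r := hr
      _ = r ^ 1 := (pow_one r).symm
      _ ≤ r ^ m := Nat.pow_le_pow_right (by omega) (by omega)
  have hcr := cube (show 1 ≤ r by omega)
  have hcq := cube (show 1 ≤ q by omega)
  have he0 : e ≠ 0 := by
    rintro rfl
    rw [mul_zero] at he
    subst he
    simp at hG
    have : 2 ^ 2 ≤ q ^ 2 := Nat.pow_le_pow_left hq 2
    omega
  have h1 : n ≤ h + 1 := by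
    have : n - 1 ≤ h := by rw [he]; exact Nat.le_mul_of_pos_right _ (by omega)
    omega
  have hd1 : 1 ≤ d ∧ d ≤ 2 := by omega
  have hk1 : 1 ≤ k := by omega
  have hhr : h ≤ r * (r ^ 2 - 1) := by rw [← hh]; exact Nat.le_mul_of_pos_right _ hk1
  have hhr3 : h + r ≤ r ^ 3 := by omega
  rcases Nat.lt_or_ge m 2 with hm | hm
  · have : m = 1 := by omega
    subst this
    rw [pow_one] at hrm
    subst hrm
    -- `n h d = h k`
    have h2 : n * h * d = h * k := by rw [hG, hh]
    have hh0 : 0 < h := by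
      have : 0 < h * k := by
        rw [hh]
        have : 2 ^ 2 ≤ r ^ 2 := Nat.pow_le_pow_left hr 2
        exact Nat.mul_pos (by omega) (by omega)
      exact Nat.pos_of_mul_pos_right this
    have h3 : n * d = k := by
      apply Nat.eq_of_mul_eq_mul_left hh0
      rw [← h2]; ring
    have : 3 * 1 ≤ n * d := Nat.mul_le_mul (by omega) hd1.1
    omega
  rcases Nat.lt_or_ge m 3 with hm3 | hm3
  · have : m = 2 := by omega
    subst this
    -- `q = r ^ 2`
    obtain ⟨s, hs⟩ : ∃ s, r ^ 2 = s + 1 := ⟨r ^ 2 - 1, by have : 1 ≤ r ^ 2 := Nat.one_le_pow _ _ (by omega); omega⟩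
    have es : r ^ 2 - 1 = s := by omega
    have hs0 : 0 < s := by
      have : 2 ^ 2 ≤ r ^ 2 := Nat.pow_le_pow_left hr 2
      omega
    rw [es] at hh hhr
    have h2 : q ^ 2 - 1 = s * (s + 2) := by
      rw [← hrm, hs]
      apply Nat.sub_eq_of_eq_add
      ring
    rw [h2] at hG
    have h3 : n * d * (r * s) = k * (r * (s + 2)) * (r * s) := by
      calc n * d * (r * s) = n * d * (h * k) := by rw [hh]
        _ = (n * h * d) * k := by ring
        _ = q * (s * (s + 2)) * k := by rw [hG]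
        _ = (r ^ 2) * (s * (s + 2)) * k := by rw [hrm]
        _ = _ := by ring
    have h4 : n * d = k * (r * (s + 2)) := Nat.eq_of_mul_eq_mul_right (Nat.mul_pos (by omega) hs0) h3
    -- the degree is `r (s + 2)` or half of it
    rcases hd with ⟨rfl, hpar⟩ | ⟨rfl, hpar⟩
    · have hk' : k = 1 := by omega
      subst hk'
      have h6 : 1 * (r * (s + 2)) = r * s + 2 * r := by ring
      rw [h6] at h4
      omega
    · rcases hk with rfl | rfl
      · -- parity
        have hrodd : r % 2 = 1 := by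
          by_contra hne
          have : r % 2 = 0 := by omega
          have h5 : q % 2 = 0 := by rw [← hrm, Nat.pow_mod, this]
          omega
        obtain ⟨v, hv⟩ : ∃ v, r = 2 * v + 1 := ⟨r / 2, by omega⟩
        have hs' : s = 4 * (v * v) + 4 * v := by
          have h5 : s + 1 = (2 * v + 1) ^ 2 := by rw [← hs, hv]
          have h6 : (2 * v + 1) ^ 2 = 4 * (v * v) + 4 * v + 1 := by ring
          omega
        rw [hs', hv] at h4
        have h6 : 1 * ((2 * v + 1) * (4 * (v * v) + 4 * v + 2)) = 2 * (2 * (2 * (v * v * v) + 3 * (v * v) + 2 * v) + 1) := by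
          ring
        rw [h6] at h4
        omega
      · have h5 : n = r * (s + 2) := by omega
        have h6 : r * (s + 2) = r * s + 2 * r := by ring
        omega
  · -- size
    have h2 : n * h * d ≤ (r ^ 3 - r + 1) * (r ^ 3 - r) * 2 := by
      apply Nat.mul_le_mul _ hd1.2
      apply Nat.mul_le_mul <;> omega
    have h3 : r ^ 3 ≤ q := by rw [← hrm]; exact Nat.pow_le_pow_right (by omega) hm3
    rw [hG] at h2
    obtain ⟨x, hx⟩ : ∃ x, r ^ 3 = x + r := ⟨r ^ 3 - r, by
      have : r ^ 1 ≤ r ^ 3 := Nat.pow_le_pow_right (by omega) (by omega)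
      rw [pow_one] at this; omega⟩
    have ex : r ^ 3 - r = x := by omega
    rw [ex] at h2
    have hx8 : 6 ≤ x := by
      have : x = r * (r ^ 2 - 1) := by omega
      have h5 : 2 ^ 2 ≤ r ^ 2 := Nat.pow_le_pow_left hr 2
      rw [this]
      calc 6 = 2 * 3 := by norm_num
        _ ≤ r * (r ^ 2 - 1) := Nat.mul_le_mul hr (by omega)
    have h4 : x + 2 ≤ q := by omega
    have h5 : (x + 2) ^ 2 ≤ q ^ 2 := Nat.pow_le_pow_left h4 2
    have h6 : (x + 2) * ((x + 2) ^ 2 - 1) ≤ q * (q ^ 2 - 1) := Nat.mul_le_mul h4 (by omega)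
    have h7 : (x + 2) ^ 2 - 1 = (x + 1) * (x + 3) := by
      apply Nat.sub_eq_of_eq_add
      ring
    rw [h7] at h6
    have h8 : 6 * x ≤ x * x := Nat.mul_le_mul_right _ hx8
    have h9 : 6 * (x * x) ≤ x * (x * x) := Nat.mul_le_mul_right _ hx8
    have h10 : (x + 2) * ((x + 1) * (x + 3)) = x * (x * x) + 6 * (x * x) + 11 * x + 6 := by ring
    have h11 : (x + 1) * x * 2 = 2 * (x * x) + 2 * x := by ring
    omega

/-- the order of the normalizer of a Sylow `p`-subgroup divides `q (q - 1) / d`. -/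
theorem card_normalizer_dvd {F : Type*} [Field F] [Fintype F] (p : ℕ) [Fact p.Prime] [CharP F p]
    (P : Sylow p (Matrix.ProjectiveSpecialLinearGroup (Fin 2) F))
    (K : Subgroup (Matrix.ProjectiveSpecialLinearGroup (Fin 2) F))
    (hK : K ≤ Subgroup.normalizer ((P : Subgroup (Matrix.ProjectiveSpecialLinearGroup (Fin 2) F)) :
        Set (Matrix.ProjectiveSpecialLinearGroup (Fin 2) F))) :
    ∃ c, Nat.card K * c * Nat.gcd 2 (Fintype.card F - 1) = Fintype.card F * (Fintype.card F - 1) := by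
  obtain ⟨g, hg⟩ := Cfsg.Agent.ClassicalGeometry.PSL2Solvable.exists_le_map_borel p P
  set Z := Subgroup.center (Matrix.SpecialLinearGroup (Fin 2) F) with hZ
  set B := Cfsg.Agent.ClassicalGeometry.PSL2Solvable.borel F with hB
  set B' := B.map (QuotientGroup.mk' Z) with hB'
  have h1 : Nat.card K ∣ Nat.card (B'.map (MulAut.conj g).toMonoidHom) := Subgroup.card_dvd_of_le (hK.trans hg)
  rw [Subgroup.card_map_of_injective (MulAut.conj g).injective] at h1
  have hZB : Z ≤ B := by
    intro z hz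
    rw [hB, Cfsg.Agent.ClassicalGeometry.PSL2Solvable.borel]
    rw [Subgroup.mem_normalizer_iff]
    intro x
    rw [← Subgroup.mem_center_iff.1 hz x, mul_inv_cancel_right]
  have h2 : Nat.card B' * Nat.card Z = Nat.card B := by
    have h3 := Subgroup.card_mul_index ((QuotientGroup.mk' Z).comp B.subtype).ker
    rw [Subgroup.index_ker] at h3
    have h4 : ((QuotientGroup.mk' Z).comp B.subtype).range = B' := by
      rw [MonoidHom.range_comp, Subgroup.range_subtype]
    have h5 : ((QuotientGroup.mk' Z).comp B.subtype).ker = Z.subgroupOf B := by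
      ext x
      rw [MonoidHom.mem_ker, Subgroup.mem_subgroupOf, MonoidHom.comp_apply, Subgroup.coe_subtype,
        QuotientGroup.mk'_apply, QuotientGroup.eq_one_iff]
    rw [h4, h5, Nat.card_congr (Subgroup.subgroupOfEquivOfLe hZB).toEquiv] at h3
    rw [← h3]; ring
  have h3 : Nat.card Z = Nat.gcd 2 (Fintype.card F - 1) := by
    have e1 := Subgroup.card_eq_card_quotient_mul_card_subgroup Z
    have e2 := card_PSL2_gcd F
    have e3 := card_SL2 F
    rw [e3, ← e2] at e1
    have e4 : 0 < Nat.card (ProjectiveSpecialLinearGroup (Fin 2) F) := Nat.card_pos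
    exact (Nat.eq_of_mul_eq_mul_left e4 e1).symm
  obtain ⟨c, hc⟩ := h1
  refine ⟨c, ?_⟩
  rw [← hc, ← h3, h2, card_borel]

theorem gcd_cases {q : ℕ} (hq : 1 ≤ q) : (Nat.gcd 2 (q - 1) = 1 ∧ q % 2 = 0) ∨ (Nat.gcd 2 (q - 1) = 2 ∧ q % 2 = 1) := by
  rcases Nat.mod_two_eq_zero_or_one q with h | h
  · left
    refine ⟨?_, h⟩
    rw [← Nat.coprime_iff_gcd_eq_one, Nat.coprime_two_left, Nat.odd_iff]
    omega
  · right
    refine ⟨Nat.gcd_eq_left ?_, h⟩
    omega

/-- **The degree of a doubly transitive action of `PSL(2, q)` of degree `2 mod 4`.** -/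
theorem psl2_degree {F : Type*} [Field F] [Fintype F] {Ω : Type*} [Finite Ω]
    [MulAction (Matrix.ProjectiveSpecialLinearGroup (Fin 2) F) Ω]
    (hA : Act (Matrix.ProjectiveSpecialLinearGroup (Fin 2) F) Ω) (hn2 : 2 < Nat.card Ω) :
    Nat.card Ω = Fintype.card F + 1 ∨ (Fintype.card F = 9 ∧ Nat.card Ω = 6) ∨
      (Fintype.card F = 4 ∧ Nat.card Ω = 6) := by
  classical
  have : Nontrivial Ω := by rw [← Finite.one_lt_card_iff_nontrivial]; omega
  obtain ⟨a, b, hab⟩ := exists_pair_ne Ω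
  set H := stabilizer (Matrix.ProjectiveSpecialLinearGroup (Fin 2) F) a with hH
  have hpre := hA.pre
  have hq : 2 ≤ Fintype.card F := Fintype.one_lt_card
  have h1 : Nat.card Ω * Nat.card H = Nat.card (Matrix.ProjectiveSpecialLinearGroup (Fin 2) F) := by
    rw [← Subgroup.index_mul_card H, hH, index_stabilizer_of_transitive]
  have h2 := card_PSL2_gcd F
  rw [← h1] at h2
  have h3 := hA.card_two hab
  have hmod := hA.mod
  have hdc := gcd_cases (show 1 ≤ Fintype.card F by omega)
  set d := Nat.gcd 2 (Fintype.card F - 1) with hd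
  obtain ⟨p, hp⟩ := CharP.exists F
  have hpp : p.Prime := CharP.char_is_prime F p
  have : Fact p.Prime := ⟨hpp⟩
  have hd1 : 1 ≤ d := by omega
  rcases Cfsg.Agent.S0799.result rfl p H with ⟨k, hk, hHk⟩ | ⟨P, K, hK, ⟨e⟩⟩ | ⟨⟨e⟩⟩ | ⟨⟨e⟩⟩ | ⟨⟨e⟩⟩ | ⟨K, _, _, m, hm, hHK⟩
  · -- cyclic or dihedral
    rw [← hd] at hk
    have hkle : k * d ≤ Fintype.card F + 1 := by
      have hdvd : k ≤ (Fintype.card F + 1) / d := by
        rcases hk with hk | hk
        · apply Nat.le_of_dvd _ hk
          exact Nat.div_pos (by omega) (by omega)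
        · by_cases h0 : (Fintype.card F - 1) / d = 0
          · have h4 : Fintype.card F - 1 < d := by
              rcases Nat.div_eq_zero_iff.1 h0 with h5 | h5 <;> omega
            omega
          · exact (Nat.le_of_dvd (Nat.pos_of_ne_zero h0) hk).trans (Nat.div_le_div_right (by omega))
      calc k * d ≤ (Fintype.card F + 1) / d * d := Nat.mul_le_mul_right _ hdvd
        _ ≤ _ := Nat.div_mul_le_self _ _
    have hHle : Nat.card H * d ≤ 2 * (Fintype.card F + 1) := by
      rcases hHk with ⟨-, hHk⟩ | ⟨⟨e⟩⟩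
      · rw [hHk]; omega
      · rw [Nat.card_congr e.toEquiv, DihedralGroup.nat_card]
        calc 2 * k * d = 2 * (k * d) := by ring
          _ ≤ _ := Nat.mul_le_mul_left _ hkle
    right; right
    exact arith_a hq hdc h2 h3 hmod hn2 hHle
  · -- Borel
    left
    obtain ⟨c, hc⟩ := card_normalizer_dvd p P K hK
    rw [← Nat.card_congr e.toEquiv, ← hd] at hc
    -- `n = (q + 1) c`
    have hH0 : 0 < Nat.card H := Nat.card_pos
    have h5 : Nat.card Ω = (Fintype.card F + 1) * c := by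
      have e1 : Fintype.card F ^ 2 - 1 = (Fintype.card F - 1) * (Fintype.card F + 1) := by
        obtain ⟨x, hx⟩ : ∃ x, Fintype.card F = x + 1 := ⟨Fintype.card F - 1, by omega⟩
        rw [hx]
        apply Nat.sub_eq_of_eq_add
        have : x + 1 - 1 = x := by omega
        rw [this]; ring
      have e2 : Nat.card Ω * (Nat.card H * d) = (Fintype.card F + 1) * c * (Nat.card H * d) := by
        calc Nat.card Ω * (Nat.card H * d) = Nat.card Ω * Nat.card H * d := by ring
          _ = Fintype.card F * (Fintype.card F - 1) * (Fintype.card F + 1) := by rw [h2, e1]; ring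
          _ = _ := by rw [← hc]; ring
      exact Nat.eq_of_mul_eq_mul_right (Nat.mul_pos hH0 (by omega)) e2
    exact arith_borel hq h5 (by omega) hc h3 hn2
  · right; left
    have : Nat.card H = 12 := by
      rw [Nat.card_congr e.toEquiv, Nat.card_eq_fintype_card]; decide +kernel
    exact arith_c hdc hq h2 h3 hmod hn2 (Or.inl this)
  · right; left
    have : Nat.card H = 24 := by
      rw [Nat.card_congr e.toEquiv, Nat.card_eq_fintype_card]; decide +kernel
    exact arith_c hdc hq h2 h3 hmod hn2 (Or.inr (Or.inl this))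
  · right; left
    have : Nat.card H = 60 := by
      rw [Nat.card_congr e.toEquiv, Nat.card_eq_fintype_card]; decide +kernel
    exact arith_c hdc hq h2 h3 hmod hn2 (Or.inr (Or.inr this))
  · exfalso
    have hr : 2 ≤ Fintype.card K := Fintype.one_lt_card
    have hm0 : m ≠ 0 := by
      rintro rfl
      rw [pow_zero] at hm; omega
    have hdK : Nat.gcd 2 (Fintype.card K - 1) = d := by
      have h6 := gcd_cases (show 1 ≤ Fintype.card K by omega)
      have h7 : Fintype.card F % 2 = Fintype.card K % 2 := by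
        rw [← hm]
        rcases Nat.mod_two_eq_zero_or_one (Fintype.card K) with h8 | h8
        · simp [Nat.pow_mod, h8, hm0]
        · simp [Nat.pow_mod, h8]
      omega
    rcases hHK with ⟨⟨e⟩⟩ | ⟨⟨e⟩⟩
    · have h5 := card_PSL2_gcd K
      rw [← Nat.card_congr e.toEquiv, hdK] at h5
      exact arith_d hdc hr hm hm0 h2 h3 hmod hn2 (Or.inr rfl) h5
    · have h5 := card_PGL2 K
      rw [← Nat.card_congr e.toEquiv] at h5
      exact arith_d hdc hr hm hm0 h2 h3 hmod hn2 (Or.inl rfl) (by rw [mul_one]; exact h5)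

end Cfsg.Agent.H358.Perm
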