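import Cfsg.Agent.H358.Perm4

/-!
# The action of a centralizer on the fixed points of an involution (helper358)
-/

set_option autoImplicit false
set_option linter.unusedSectionVars false

namespace Cfsg.Agent.H358.Perm

open MulAction Pointwise
open Cfsg.Agent.H358.TwoTransMod4
open Cfsg.Agent.H358.Fus

/-- A normal subgroup of a doubly transitive group of degree `≡ 2 mod 4` acts trivially or doubly transitively. -/
theorem normal_dich {C : Type*} [Group C] [Finite C] {F : Type*} [MulAction C F] [Finite F] (h : Act C F)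
    (K : Subgroup C) [hK : K.Normal] : (∀ k ∈ K, ∀ x : F, k • x = x) ∨ Act K F := by
  set φ : C →* Equiv.Perm F := MulAction.toPermHom C F with hφ
  set R := φ.range with hR
  set ψ : C →* R := φ.rangeRestrict with hψ
  have hsurj : Function.Surjective ψ := φ.rangeRestrict_surjective
  have hR2 : IsMultiplyPretransitive R F 2 := by
    rw [is_two_pretransitive_iff]
    intro a b c d hab hcd
    obtain ⟨m, h2, h3⟩ := (is_two_pretransitive_iff.1 h.two) hab hcd
    exact ⟨ψ m, h2, h3⟩
  have hn : (K.map ψ).Normal := hK.map ψ hsurj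
  by_cases hbot : K.map ψ = ⊥
  · left
    intro k hk x
    have h1 : ψ k ∈ K.map ψ := ⟨k, hk, rfl⟩
    rw [hbot, Subgroup.mem_bot] at h1
    have h2 : φ k = 1 := congrArg Subtype.val h1
    have h3 : φ k x = x := by rw [h2]; rfl
    exact h3
  · right
    have h4 := normal_two_transitive hR2 h.mod (K.map ψ) hbot
    refine ⟨?_, h.mod⟩
    rw [is_two_pretransitive_iff] at h4 ⊢
    intro a b c d hab hcd
    obtain ⟨⟨_, m, hm, rfl⟩, h2, h3⟩ := h4 hab hcd
    exact ⟨⟨m, hm⟩, h2, h3⟩

variable {G : Type*} [Group G] {Ω : Type*} [MulAction G Ω]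

/-- The fixed points of an element as a set with an action of the centralizer. -/
def fixSub (z : G) (Ω : Type*) [MulAction G Ω] : SubMulAction (Subgroup.centralizer ({z} : Set G)) Ω where
  carrier := {x | z • x = x}
  smul_mem' := by
    rintro ⟨g, hg⟩ x hx
    have h1 : z * g = g * z := Subgroup.mem_centralizer_iff.1 hg z rfl
    change z • x = x at hx
    change z • (g • x) = g • x
    rw [← mul_smul, h1, mul_smul, hx]

theorem mem_fixSub {z : G} {x : Ω} : x ∈ fixSub z Ω ↔ z • x = x := Iff.rfl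

theorem card_fixSub (z : G) : Nat.card (fixSub z Ω) = ({x : Ω | z • x = x} : Set Ω).ncard := rfl

variable [Finite G] [Finite Ω]

/-- If there are more than two fixed points, then the centralizer is doubly transitive on them. -/
theorem Act.fixAct (h : Act G Ω) {z : G} (hcv : CenV (Subgroup.zpowers z) Ω) (hz : z * z = 1)
    (hf : ({x : Ω | z • x = x} : Set Ω).ncard % 4 = 2) (hf2 : 2 < ({x : Ω | z • x = x} : Set Ω).ncard) :
    Act (Subgroup.centralizer ({z} : Set G)) (fixSub z Ω) := by
  refine ⟨?_, by rw [card_fixSub]; exact hf⟩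
  have key : ∀ a b c : Ω, z • a = a → z • b = b → z • c = c → a ≠ b → a ≠ c →
      ∃ g ∈ Subgroup.centralizer ({z} : Set G), g • a = a ∧ g • b = c := by
    intro a b c ha hb hc hab hac
    have hm : ∀ x : Ω, z • x = x → x ∈ fix (Subgroup.zpowers z) Ω := by
      intro x hx
      rw [fix_zpowers]
      exact hx
    obtain ⟨g, h1, h2, h3⟩ := h.trans_cent' hcv (isPGroup_zpowers hz) (hm a ha) (hm b hb) (hm c hc) hab hac
    refine ⟨g, ?_, h1, h2⟩
    rw [Subgroup.mem_centralizer_singleton_iff]
    exact h3 z (Subgroup.mem_zpowers z)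
  rw [is_two_pretransitive_iff]
  rintro ⟨a, ha⟩ ⟨b, hb⟩ ⟨c, hc⟩ ⟨d, hd⟩ hab hcd
  rw [mem_fixSub] at ha hb hc hd
  have hab' : a ≠ b := fun e => hab (Subtype.ext e)
  have hcd' : c ≠ d := fun e => hcd (Subtype.ext e)
  -- move `a` to `c`
  have step1 : ∃ g ∈ Subgroup.centralizer ({z} : Set G), g • a = c := by
    by_cases hac : a = c
    · exact ⟨1, one_mem _, by rw [one_smul, hac]⟩
    · obtain ⟨e, he, hecd⟩ : ∃ e ∈ ({x : Ω | z • x = x} : Set Ω), e ∉ ({a, c} : Set Ω) := by
        apply Set.exists_mem_notMem_of_ncard_lt_ncard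
        · rw [Set.ncard_pair hac]; omega
        · exact Set.toFinite _
      simp only [Set.mem_insert_iff, Set.mem_singleton_iff, not_or] at hecd
      obtain ⟨g, hg, -, h2⟩ := key e a c he ha hc hecd.1 hecd.2
      exact ⟨g, hg, h2⟩
  obtain ⟨g, hg, hga⟩ := step1
  have hgb : z • (g • b) = g • b := by
    have := (fixSub z Ω).smul_mem (⟨g, hg⟩ : Subgroup.centralizer ({z} : Set G)) (x := b) hb
    exact this
  have hne : c ≠ g • b := by
    rw [← hga]
    exact fun e => hab' (smul_left_cancel g e)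
  obtain ⟨k, hk, h4, h5⟩ := key c (g • b) d hc hgb hd hne hcd'
  refine ⟨⟨k * g, mul_mem hk hg⟩, Subtype.ext ?_, Subtype.ext ?_⟩
  · change (k * g) • a = c
    rw [mul_smul, hga, h4]
  · change (k * g) • b = d
    rw [mul_smul, h5]

/-- A normal subgroup of the centralizer without subgroups of index two is trivial or doubly transitive on the
fixed points. -/
theorem Act.loc_dich (h : Act G Ω) {z : G}
    (hcv : 2 < ({x : Ω | z • x = x} : Set Ω).ncard → CenV (Subgroup.zpowers z) Ω) (hz : z * z = 1)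
    (hf : ({x : Ω | z • x = x} : Set Ω).ncard % 4 = 2) (K : Subgroup (Subgroup.centralizer ({z} : Set G)))
    [hK : K.Normal] (hK2 : ∀ D : Subgroup K, D.index ≠ 2) :
    (∀ k ∈ K, ∀ x : Ω, z • x = x → k • x = x) ∨
      (Act K (fixSub z Ω) ∧ 2 < ({x : Ω | z • x = x} : Set Ω).ncard) := by
  by_cases hf2 : 2 < ({x : Ω | z • x = x} : Set Ω).ncard
  · rcases normal_dich (h.fixAct (hcv hf2) hz hf hf2) K with h1 | h1
    · left
      intro k hk x hx
      exact congrArg Subtype.val (h1 k hk ⟨x, hx⟩)
    · exact Or.inr ⟨h1, hf2⟩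
  · left
    have hf3 : Nat.card (fixSub z Ω) = 2 := by rw [card_fixSub]; omega
    intro k hk x hx
    have h1 : (⟨k, hk⟩ : K) ∈ stabilizer K (⟨x, hx⟩ : fixSub z Ω) := by
      have hidx := index_stabilizer K (⟨x, hx⟩ : fixSub z Ω)
      have hle : (orbit K (⟨x, hx⟩ : fixSub z Ω)).ncard ≤ 2 := by
        rw [← hf3, ← Set.ncard_univ]
        exact Set.ncard_le_ncard (Set.subset_univ _)
      have hpos : (stabilizer K (⟨x, hx⟩ : fixSub z Ω)).index ≠ 0 := Subgroup.index_ne_zero_of_finite
      have h2 := hK2 (stabilizer K (⟨x, hx⟩ : fixSub z Ω))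
      have h3 : (stabilizer K (⟨x, hx⟩ : fixSub z Ω)).index = 1 := by omega
      rw [Subgroup.index_eq_one] at h3
      rw [h3]
      trivial
    exact congrArg Subtype.val h1

end Cfsg.Agent.H358.Perm
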