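import Cfsg.Agent.H358.CaseOne
import Cfsg.Agent.S3401

/-!
# The first case (helper358)
-/

set_option autoImplicit false
set_option linter.unusedSectionVars false

namespace Cfsg.Agent.H358.Perm

open MulAction Matrix Cfsg
open Cfsg.Agent.H358.TwoTransMod4
open Cfsg.Agent.H358.Fus

variable {G : Type*} [Group G] [Finite G] {Ω : Type*} [MulAction G Ω] [Finite Ω]

theorem full_of_sylow {K : Subgroup G} (T : Sylow 2 ↥K) : Full K ((T : Subgroup ↥K).map K.subtype) := by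
  have : Fact (Nat.Prime 2) := ⟨Nat.prime_two⟩
  refine ⟨Subgroup.map_subtype_le _, ?_⟩
  rw [Subgroup.card_map_of_injective K.subtype_injective]
  exact T.card_eq_multiplicity

theorem Act.ab_of_comm (h : Act G Ω) {a : Ω} {T : Subgroup G} (hT : Full (stabilizer G a) T)
    (hTc : ∀ x ∈ T, ∀ y ∈ T, x * y = y * x) : Ab G Ω := by
  intro c P hP hP2 x hx y hy
  have := h.pre
  obtain ⟨g, hg⟩ := MulAction.exists_smul_eq G c a
  have h1 : cj g P ≤ stabilizer G a := by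
    intro z hz
    rw [mem_cj] at hz
    have h2 : (g⁻¹ * z * g) • c = c := hP hz
    rw [mul_smul, mul_smul, hg, inv_smul_eq_iff, hg] at h2
    exact h2
  have h2 : IsPGroup 2 (cj g P) := hP2.map _
  obtain ⟨Q, hQ, hPQ⟩ := exists_full h2 h1
  obtain ⟨k, -, hk⟩ := hT.conj hQ
  have hQc : ∀ x ∈ Q, ∀ y ∈ Q, x * y = y * x := by
    rw [← hk]
    exact cj_comm hTc
  have h3 : g * x * g⁻¹ ∈ Q := hPQ ⟨x, hx, rfl⟩
  have h4 : g * y * g⁻¹ ∈ Q := hPQ ⟨y, hy, rfl⟩
  have h5 := hQc _ h3 _ h4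
  have h6 : g * (x * y) * g⁻¹ = g * (y * x) * g⁻¹ := by
    calc g * (x * y) * g⁻¹ = (g * x * g⁻¹) * (g * y * g⁻¹) := by group
      _ = (g * y * g⁻¹) * (g * x * g⁻¹) := h5
      _ = g * (y * x) * g⁻¹ := by group
  exact mul_left_cancel (mul_right_cancel h6)

theorem Ab.sub (h : Ab G Ω) (M : Subgroup G) : Ab M Ω := by
  intro c P hP hP2 x hx y hy
  have h1 : P.map M.subtype ≤ stabilizer G c := by
    rintro _ ⟨z, hz, rfl⟩
    exact hP hz
  have h2 := h c (P.map M.subtype) h1 (hP2.map _) x ⟨x, hx, rfl⟩ y ⟨y, hy, rfl⟩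
  exact Subtype.ext h2

theorem not_comm_of_cent {M : Subgroup G} (hM : M ≠ ⊥) (hC : Subgroup.centralizer (M : Set G) = ⊥) :
    ¬ IsMulCommutative M := by
  intro hc
  apply hM
  rw [eq_bot_iff, ← hC]
  intro x hx
  rw [Subgroup.mem_centralizer_iff]
  intro y hy
  exact congrArg Subtype.val (hc.is_comm.comm ⟨y, hy⟩ ⟨x, hx⟩)

end Cfsg.Agent.H358.Perm
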