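import Cfsg.Agent.H358.UThreeA
import Cfsg.Agent.H358.RootFix
import Cfsg.Agent.Cit.LFactSU
import Cfsg.Agent.Classification.NGroupExclude
import Cfsg.Agent.S0281

/-!
# The doubly transitive actions of `SU(3, q)` of degree `2 mod 4`, `q` odd (helper358)
-/

set_option autoImplicit false
set_option linter.unusedSectionVars false

namespace Cfsg.Agent.H358.U3

open MulAction Matrix Cfsg
open Cfsg.Agent.LieClassical.HermBasic Cfsg.Agent.LieClassical.HermSiegel
open Cfsg.Agent.ClassicalGeometry.PSUAutSylow (exists_partner prime_dvd_q)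
open Cfsg.Agent.ClassicalGeometry.PSUAutBasic (transvG transv act_transv mem_transvG isPGroup_siegG
  transvG_le_siegG eq_one_of_center_of_pow siegel_pow_prime_pow)
open Cfsg.Agent.CitLFactSU (zu mat_zu zu_sq)
open Cfsg.Agent.Classification.NGroupExclude (blk blkSL blkSU blkSU_injective coe_blkSL hermForm_three blk_mulVec)
open Cfsg.Agent.H358.Perm
open scoped LinearAlgebra.Projectivization

variable {F : Type*} [Field F] [Fintype F] {q : ℕ}

/-! ### The block subgroup -/

/-- The last basis vector. -/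
def e2 (F : Type*) [Field F] : Fin 3 → F := Pi.single 2 1

theorem mem_range_blkSU (hF : Fintype.card F = q ^ 2) (y : SU 3 F q) (h : act y (e2 F) = e2 F) :
    ∃ s : SU 2 F q, blkSU q s = y := by
  have hcol : ∀ j, mat y j 2 = (e2 F) j := by
    intro j
    rw [← act_single y 2 j]
    exact congrFun h j
  have hrow : ∀ i : Fin 3, i ≠ 2 → mat y 2 i = 0 := by
    intro i hi
    have h1 := herm_act y (Pi.single i 1) (e2 F)
    rw [h, e2, herm_single_right hF, herm_single_right hF, act_single, Pi.single_eq_of_ne hi.symm, zero_mul] at h1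
    rwa [one_pow, mul_one] at h1
  have h02 : mat y 0 2 = 0 := by rw [hcol]; rfl
  have h12 : mat y 1 2 = 0 := by rw [hcol]; rfl
  have h22 : mat y 2 2 = 1 := by rw [hcol]; rfl
  have h20 : mat y 2 0 = 0 := hrow 0 (by decide)
  have h21 : mat y 2 1 = 0 := hrow 1 (by decide)
  set A : Matrix (Fin 2) (Fin 2) F := !![mat y 0 0, mat y 0 1; mat y 1 0, mat y 1 1] with hA
  have hB : blk A = mat y := by
    ext i j
    fin_cases i <;> fin_cases j <;> simp [blk, hA, h02, h12, h22, h20, h21]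
  have hdet : A.det = 1 := by
    rw [← Cfsg.Agent.Classification.NGroupExclude.det_blk, hB, det_mat]
  have hmem : (⟨A, hdet⟩ : Matrix.SpecialLinearGroup (Fin 2) F) ∈ SU 2 F q := by
    refine (LieClassical.HermBasic.mem_SU_iff (⟨A, hdet⟩ : Matrix.SpecialLinearGroup (Fin 2) F)).2 ?_
    intro u v
    have h1 := herm_act y ![u 0, u 1, 0] ![v 0, v 1, 0]
    rw [act_def, act_def, ← hB, blk_mulVec, blk_mulVec, hermForm_three, hermForm_three] at h1
    simp only [Matrix.cons_val_zero, Matrix.cons_val_one, Matrix.cons_val_two, Matrix.head_cons,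
      Matrix.tail_cons, zero_mul, add_zero] at h1
    have hu : (![u 0, u 1] : Fin 2 → F) = u := by
      ext i; fin_cases i <;> rfl
    have hv : (![v 0, v 1] : Fin 2 → F) = v := by
      ext i; fin_cases i <;> rfl
    rw [hu, hv] at h1
    have hu' : (![(A *ᵥ u) 0, (A *ᵥ u) 1] : Fin 2 → F) = A *ᵥ u := by
      ext i; fin_cases i <;> rfl
    have hv' : (![(A *ᵥ v) 0, (A *ᵥ v) 1] : Fin 2 → F) = A *ᵥ v := by
      ext i; fin_cases i <;> rfl
    rw [hu', hv'] at h1
    exact h1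
  exact ⟨⟨⟨A, hdet⟩, hmem⟩, mat_injective hB⟩

theorem act_blkSU (s : SU 2 F q) : act (blkSU q s) (e2 F) = e2 F := by
  rw [act_def]
  change blk _ *ᵥ _ = _
  rw [blk_mulVec]
  ext i
  fin_cases i <;> simp [e2, Matrix.mulVec, dotProduct, Fin.sum_univ_two]

theorem act_zu (hF : Fintype.card F = q ^ 2) (v : Fin 3 → F) : act (zu hF) v = ![-v 0, -v 1, v 2] := by
  rw [act_def, mat_zu]
  ext i
  fin_cases i <;> simp [Matrix.mulVec_diagonal]

theorem exists_smul_of_commute (hF : Fintype.card F = q ^ 2) (h2 : (2 : F) ≠ 0) {g : SU 3 F q}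
    (hg : g * zu hF = zu hF * g) : ∃ c : F, c ≠ 0 ∧ act g (e2 F) = c • e2 F := by
  have h1 : act (zu hF) (act g (e2 F)) = act g (e2 F) := by
    rw [← act_mul, ← hg, act_mul]
    congr 1
    rw [act_zu]
    ext i
    fin_cases i <;> simp [e2]
  rw [act_zu] at h1
  set w := act g (e2 F) with hw
  have h0 : w 0 = 0 := by
    have := congrFun h1 0
    simp only [Matrix.cons_val_zero] at this
    have h3 : (2 : F) * w 0 = 0 := by linear_combination -this
    exact (mul_eq_zero.1 h3).resolve_left h2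
  have h1' : w 1 = 0 := by
    have := congrFun h1 1
    simp only [Matrix.cons_val_one, Matrix.cons_val_zero] at this
    have h3 : (2 : F) * w 1 = 0 := by linear_combination -this
    exact (mul_eq_zero.1 h3).resolve_left h2
  have hw2 : w = w 2 • e2 F := by
    ext i
    fin_cases i
    · simp [e2, h0]
    · simp [e2, h1']
    · simp [e2]
  refine ⟨w 2, ?_, hw2⟩
  intro h3
  rw [h3, zero_smul, hw, act_eq_zero] at hw2
  have := congrFun hw2 2
  simp [e2] at this

theorem sl2_invol {K : Type*} [Field K] (h2 : (2 : K) ≠ 0) {s : SpecialLinearGroup (Fin 2) K} (h : s * s = 1)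
    (h1 : s ≠ 1) : s = -1 := by
  have hd : s.1 0 0 * s.1 1 1 - s.1 0 1 * s.1 1 0 = 1 := by
    rw [← Matrix.det_fin_two]; exact s.2
  have hs := congrArg Subtype.val h
  have e00 := congrFun (congrFun hs 0) 0
  have e01 := congrFun (congrFun hs 0) 1
  have e10 := congrFun (congrFun hs 1) 0
  have e11 := congrFun (congrFun hs 1) 1
  change (s.1 * s.1) 0 0 = (1 : Matrix (Fin 2) (Fin 2) K) 0 0 at e00
  change (s.1 * s.1) 0 1 = (1 : Matrix (Fin 2) (Fin 2) K) 0 1 at e01
  change (s.1 * s.1) 1 0 = (1 : Matrix (Fin 2) (Fin 2) K) 1 0 at e10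
  change (s.1 * s.1) 1 1 = (1 : Matrix (Fin 2) (Fin 2) K) 1 1 at e11
  rw [Matrix.mul_apply, Fin.sum_univ_two] at e00 e01 e10 e11
  rw [Matrix.one_apply_eq] at e00 e11
  rw [Matrix.one_apply_ne (by decide)] at e01 e10
  have hsum : s.1 0 0 * (s.1 0 0 + s.1 1 1) = 2 := by linear_combination e00 + hd
  have hne : s.1 0 0 + s.1 1 1 ≠ 0 := by
    intro h3; rw [h3, mul_zero] at hsum; exact h2 hsum.symm
  have ha0 : s.1 0 0 ≠ 0 := by
    intro h3; rw [h3, zero_mul] at hsum; exact h2 hsum.symm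
  have hb : s.1 0 1 = 0 := by
    have : s.1 0 1 * (s.1 0 0 + s.1 1 1) = 0 := by linear_combination e01
    exact (mul_eq_zero.1 this).resolve_right hne
  have hc : s.1 1 0 = 0 := by
    have : s.1 1 0 * (s.1 0 0 + s.1 1 1) = 0 := by linear_combination e10
    exact (mul_eq_zero.1 this).resolve_right hne
  have had : s.1 1 1 = s.1 0 0 := by
    have : s.1 0 0 * (s.1 1 1 - s.1 0 0) = 0 := by
      rw [hb] at hd e00; linear_combination hd - e00
    exact sub_eq_zero.1 ((mul_eq_zero.1 this).resolve_left ha0)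
  have ha : (s.1 0 0 - 1) * (s.1 0 0 + 1) = 0 := by
    rw [hb] at e00; linear_combination e00
  rcases mul_eq_zero.1 ha with h3 | h3
  · exfalso
    apply h1
    have h4 : s.1 0 0 = 1 := sub_eq_zero.1 h3
    apply Subtype.ext
    ext i j
    fin_cases i <;> fin_cases j
    · exact h4
    · exact hb
    · exact hc
    · exact had.trans h4
  · have h4 : s.1 0 0 = -1 := eq_neg_of_add_eq_zero_left h3
    apply Subtype.ext
    ext i j
    fin_cases i <;> fin_cases j
    · change s.1 0 0 = _; rw [h4]; simp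
    · change s.1 0 1 = _; rw [hb]; simp
    · change s.1 1 0 = _; rw [hc]; simp
    · change s.1 1 1 = _; rw [had, h4]; simp

theorem blk_neg_one : blk (-1 : Matrix (Fin 2) (Fin 2) F) = diagonal ![-1, -1, 1] := by
  ext i j
  fin_cases i <;> fin_cases j <;> simp [blk]

/-- The homomorphism `SL(2, K) → SU(3, q)`. -/
theorem exists_rho (hF : Fintype.card F = q ^ 2) (hq : Odd q) {K : Type*} [Field K] [Fintype K]
    (hK : Fintype.card K = q) :
    ∃ ρ : SpecialLinearGroup (Fin 2) K →* SU 3 F q, ρ (-1) = zu hF ∧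
      ∀ y : SU 3 F q, (∃ x, ρ x = y) ↔ act y (e2 F) = e2 F := by
  obtain ⟨σ⟩ := Cfsg.Agent.S0281.result hF hK
  have h2K : (2 : K) ≠ 0 := two_ne_zero_of_odd (by rw [hK]; exact hq)
  have h2F : (2 : F) ≠ 0 := two_ne_zero_of_odd (by rw [hF]; exact hq.pow)
  refine ⟨(blkSU q).comp σ.symm.toMonoidHom, ?_, ?_⟩
  · change blkSU q (σ.symm (-1)) = zu hF
    set s : SU 2 F q := σ.symm (-1) with hs
    have hss : s * s = 1 := by
      rw [hs, ← map_mul, neg_one_mul, neg_neg, map_one]
    have hs1 : s ≠ 1 := by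
      rw [hs, Ne, map_eq_one_iff _ σ.symm.injective]
      intro h
      have h1 := congrArg (fun x : SpecialLinearGroup (Fin 2) K => x.1 0 0) h
      have h3 : (-1 : K) = 1 := by simpa using h1
      apply h2K
      linear_combination -h3
    have hneg : s.1 = -1 := by
      apply sl2_invol h2F
      · exact congrArg Subtype.val hss
      · intro h; exact hs1 (Subtype.ext h)
    apply mat_injective
    rw [mat_zu, ← blk_neg_one]
    change blk s.1.1 = _
    rw [hneg]
    congr 1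
  · intro y
    constructor
    · rintro ⟨x, rfl⟩
      exact act_blkSU _
    · intro h
      obtain ⟨s, hs⟩ := mem_range_blkSU hF y h
      refine ⟨σ s, ?_⟩
      change blkSU q (σ.symm (σ s)) = y
      rw [MulEquiv.symm_apply_apply, hs]

theorem transvG_fix (hF : Fintype.card F = q ^ 2) (hq : Odd q) (hq9 : q ≠ 9) {Ω : Type*}
    [MulAction (SU 3 F q) Ω] [Finite Ω] (h : Act (SU 3 F q) Ω)
    (hcv : 2 < ({x : Ω | zu hF • x = x} : Set Ω).ncard → CenV (Subgroup.zpowers (zu hF)) Ω)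
    (hf : ({x : Ω | zu hF • x = x} : Set Ω).ncard % 4 = 2) {u : Fin 3 → F} (hu : hermForm 3 F q u u = 0)
    (hu2 : u 2 = 0) : ∃ a : Ω, transvG hF u hu ≤ stabilizer (SU 3 F q) a := by
  obtain ⟨p, k, hp, hchar, hqp, hk⟩ := exists_prime_pow hF
  have hpf : Fact p.Prime := ⟨hp⟩
  let K := GaloisField p k
  have : Fintype K := Fintype.ofFinite K
  have hK : Fintype.card K = q := by
    rw [← Nat.card_eq_fintype_card, GaloisField.card p k hk.ne', hqp]
  have h2F : (2 : F) ≠ 0 := two_ne_zero_of_odd (by rw [hF]; exact hq.pow)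
  obtain ⟨ρ, hρ1, hρ2⟩ := exists_rho hF hq hK
  refine h.exists_fix (zu_sq hF) hcv hf (K := K) (by rw [hK]; exact hq9) (by rw [hK]; exact hq) ρ hρ1 ?_
    (p := p) (by rw [hK, hqp]; exact dvd_pow_self p hk.ne')
    ((isPGroup_siegG hF p hu).to_le (transvG_le_siegG hF hu)) ?_
  · intro g hg x
    obtain ⟨c, hc, hgc⟩ := exists_smul_of_commute hF h2F hg
    have h1 : act (ρ x) (e2 F) = e2 F := (hρ2 _).1 ⟨x, rfl⟩
    have h3 : act g⁻¹ (e2 F) = c⁻¹ • e2 F := by
      rw [eq_comm, ← act_eq_iff, act_smul, hgc, smul_smul, inv_mul_cancel₀ hc, one_smul]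
    obtain ⟨y, hy⟩ := (hρ2 (g * ρ x * g⁻¹)).2 (by
      rw [act_mul, act_mul, h3, act_smul, act_smul, h1, hgc, smul_smul, inv_mul_cancel₀ hc, one_smul])
    exact ⟨y, hy.symm⟩
  · intro y hy
    obtain ⟨μ, hμ, rfl⟩ := mem_transvG.1 hy
    obtain ⟨x, hx⟩ := (hρ2 (transv hF u hu μ hμ)).2 (by
      rw [act_transv, e2, herm_single_left, hu2, zero_pow_q hF, mul_zero, mul_zero, zero_smul, add_zero])
    exact ⟨x, hx⟩

theorem conj_transvG (hF : Fintype.card F = q ^ 2) {u u' : Fin 3 → F} (hu : hermForm 3 F q u u = 0)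
    (hu' : hermForm 3 F q u' u' = 0) (g : SU 3 F q) {c : F} (hg : act g u = c • u') {x : SU 3 F q}
    (hx : x ∈ transvG hF u hu) : g * x * g⁻¹ ∈ transvG hF u' hu' := by
  obtain ⟨μ, hμ, rfl⟩ := mem_transvG.1 hx
  have h1 : μ * (c * c ^ q) + (μ * (c * c ^ q)) ^ q = 0 := by
    rw [mul_pow, norm_pow_q hF, ← add_mul, hμ, zero_mul]
  refine mem_transvG.2 ⟨μ * (c * c ^ q), h1, ?_⟩
  apply ext_act
  intro v
  rw [act_mul, act_mul, act_transv, act_add, act_smul, act_act_inv, act_transv, hg]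
  have h2 : hermForm 3 F q (act g⁻¹ v) u = c ^ q * hermForm 3 F q v u' := by
    rw [← herm_act g, act_act_inv, hg, herm_smul_right]
  rw [h2, smul_smul]
  congr 2
  ring

theorem iso_rep (p : Pts F q) : hermForm 3 F q (p : ℙ F (Fin 3 → F)).rep (p : ℙ F (Fin 3 → F)).rep = 0 := by
  rw [← mk_mem_Pts (p : ℙ F (Fin 3 → F)).rep_nonzero, Projectivization.mk_rep]
  exact p.2

/-- The transvection group of an isotropic point. -/
noncomputable def XX (hF : Fintype.card F = q ^ 2) (p : Pts F q) : Subgroup (SU 3 F q) :=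
  transvG hF (p : ℙ F (Fin 3 → F)).rep (iso_rep p)

theorem conj_XX (hF : Fintype.card F = q ^ 2) (g : SU 3 F q) (p : Pts F q) (x : SU 3 F q) (hx : x ∈ XX hF p) :
    g * x * g⁻¹ ∈ XX hF (g • p) := by
  have h1 : (g • p : Pts F q).1 = g • (p : ℙ F (Fin 3 → F)) := rfl
  have h2 : Projectivization.mk F (act g (p : ℙ F (Fin 3 → F)).rep)
      (by rw [Ne, act_eq_zero]; exact (p : ℙ F (Fin 3 → F)).rep_nonzero) =
      Projectivization.mk F ((g • p : Pts F q) : ℙ F (Fin 3 → F)).rep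
        ((g • p : Pts F q) : ℙ F (Fin 3 → F)).rep_nonzero := by
    rw [Projectivization.mk_rep, h1, ← smul_mk' g (p : ℙ F (Fin 3 → F)).rep_nonzero, Projectivization.mk_rep]
  rw [Projectivization.mk_eq_mk_iff'] at h2
  obtain ⟨c, hc⟩ := h2
  exact conj_transvG hF _ _ g hc.symm hx

/-- **The degree.** -/
theorem card_eq (hF : Fintype.card F = q ^ 2) (hq : Odd q) (hq9 : q ≠ 9) {Ω : Type*}
    [MulAction (SU 3 F q) Ω] [Finite Ω] (h : Act (SU 3 F q) Ω)
    (hcv : 2 < ({x : Ω | zu hF • x = x} : Set Ω).ncard → CenV (Subgroup.zpowers (zu hF)) Ω)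
    (hf : ({x : Ω | zu hF • x = x} : Set Ω).ncard % 4 = 2)
    (hker : ∀ g : SU 3 F q, (∀ a : Ω, g • a = a) → g ∈ Subgroup.center (SU 3 F q)) :
    Nat.card Ω = q ^ 3 + 1 := by
  have h2F : (2 : F) ≠ 0 := two_ne_zero_of_odd (by rw [hF]; exact hq.pow)
  obtain ⟨b, hb⟩ := exists_norm_eq hF (c := -1) (by rw [neg_pow_q hF, one_pow])
  have hb0 : b ≠ 0 := by
    rintro rfl; rw [zero_mul] at hb; exact one_ne_zero (neg_eq_zero.1 hb.symm)
  set u : Fin 3 → F := ![1, b, 0] with hu
  have hu0 : u ≠ 0 := by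
    intro h0
    have := congrFun h0 0
    simp [hu] at this
  have huu : hermForm 3 F q u u = 0 := by
    rw [herm_def, Fin.sum_univ_three]
    simp [hu, hb, zero_pow_q hF]
  set δ : Pts F q := ⟨Projectivization.mk F u hu0, (mk_mem_Pts hu0).2 huu⟩ with hδ
  obtain ⟨c, hc⟩ := Projectivization.exists_smul_eq_mk_rep F u hu0
  have hr2 : (δ : ℙ F (Fin 3 → F)).rep 2 = 0 := by
    change (Projectivization.mk F u hu0).rep 2 = 0
    rw [← hc]
    change (c : F) * u 2 = 0
    simp [hu]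
  obtain ⟨a, ha⟩ := transvG_fix hF hq hq9 h hcv hf (iso_rep δ) hr2
  rw [← card_Pts hF]
  refine Fisher.card_eq_of_sub h.two (two_pretransitive hF) (XX hF) (conj_XX hF) (a := a) (δ := δ) ha ?_
  by_contra hcon
  push Not at hcon
  obtain ⟨p, k, hp, hchar, hqp, hk⟩ := exists_prime_pow hF
  have hpf : Fact p.Prime := ⟨hp⟩
  set r := (δ : ℙ F (Fin 3 → F)).rep with hr
  obtain ⟨f, hff, hrf, hfr⟩ := exists_partner hF (δ : ℙ F (Fin 3 → F)).rep_nonzero (iso_rep δ)
  obtain ⟨μ, hμ0, hμ⟩ := exists_trace_zero_ne hF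
  have hx : transv hF r (iso_rep δ) μ hμ ∈ XX hF δ := mem_transvG.2 ⟨μ, hμ, rfl⟩
  have hcen := hker _ (fun a => hcon _ hx a)
  obtain ⟨m, hm⟩ := siegel_pow_prime_pow hF p (Cfsg.Agent.ClassicalGeometry.PSUAutBasic.isSiegel_zero (iso_rep δ) hμ)
  have h1 : transv hF r (iso_rep δ) μ hμ = 1 := eq_one_of_center_of_pow hF (by norm_num) hcen hm
  have h3 := congrArg (fun g => act g f) h1
  simp only [act_transv, act_one] at h3
  rw [hfr, mul_one, add_eq_left, smul_eq_zero] at h3
  rcases h3 with h3 | h3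
  · exact hμ0 h3
  · exact (δ : ℙ F (Fin 3 → F)).rep_nonzero h3

end Cfsg.Agent.H358.U3
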