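import Cfsg.Agent.H358.UThreeB
import Cfsg.Agent.HKS.EndOrd

/-!
# The doubly transitive actions of `PSU(3, q)` of degree `2 mod 4`, `q` odd (helper358)
-/

set_option autoImplicit false
set_option linter.unusedSectionVars false

namespace Cfsg.Agent.H358.Perm

open MulAction Matrix Cfsg
open Cfsg.Agent.H358.TwoTransMod4

theorem eq_one_of_cube {G : Type*} [Group G] {P : Subgroup G} (hP : IsPGroup 2 P) {w : G} (hw : w ∈ P)
    (h3 : w ^ 3 = 1) : w = 1 := by
  obtain ⟨k, hk⟩ := hP ⟨w, hw⟩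
  have hk' : w ^ 2 ^ k = 1 := congrArg Subtype.val hk
  have h1 : orderOf w ∣ 2 ^ k := orderOf_dvd_of_pow_eq_one hk'
  have h2 : orderOf w ∣ 3 := orderOf_dvd_of_pow_eq_one h3
  have h4 : Nat.Coprime (2 ^ k) 3 := Nat.Coprime.pow_left k (by norm_num)
  exact orderOf_eq_one_iff.1 (Nat.eq_one_of_dvd_coprimes h4 h1 h2)

theorem CenV.comp {G M : Type*} [Group G] [Group M] {Ω : Type*} [MulAction M Ω] (f : G →* M)
    (hf : ∀ x, f x = 1 → x ^ 3 = 1) {z : G} (h : CenV (Subgroup.zpowers (f z)) Ω) :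
    @CenV G _ (Subgroup.zpowers z) Ω (MulAction.compHom Ω f) := by
  intro c P hP hP2 hV v hv x hx
  have h1 : P.map f ≤ stabilizer M c := by
    rintro _ ⟨y, hy, rfl⟩
    exact hP hy
  have h2 : Subgroup.zpowers (f z) ≤ P.map f := by
    rw [Subgroup.zpowers_le]
    exact ⟨z, hV (Subgroup.mem_zpowers z), rfl⟩
  have h3 : f v ∈ Subgroup.zpowers (f z) := by
    obtain ⟨k, rfl⟩ := hv
    exact ⟨k, (map_zpow f z k).symm⟩
  have h4 := h c (P.map f) h1 (hP2.map f) h2 (f v) h3 (f x) ⟨x, hx, rfl⟩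
  have h5 : f (v * x * (x * v)⁻¹) = 1 := by
    rw [map_mul, map_inv, map_mul, map_mul, h4, mul_inv_cancel]
  have hvP : v ∈ P := hV hv
  have h6 := eq_one_of_cube hP2 (mul_mem (mul_mem hvP hx) (inv_mem (mul_mem hx hvP))) (hf _ h5)
  exact mul_inv_eq_one.1 h6

end Cfsg.Agent.H358.Perm

namespace Cfsg.Agent.H358.U3

open MulAction Matrix Cfsg
open Cfsg.Agent.LieClassical.HermBasic Cfsg.Agent.LieClassical.HermSiegel
open Cfsg.Agent.CitLFactSU (zu mat_zu zu_sq center_three)
open Cfsg.Agent.H358.Perm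

/-- The test. -/
def chk (n : ℕ) : Bool := !decide (n % 4 = 2) || !decide (2 < n) || !decide (42573600 % (n * (n - 1)) = 0) ||
  decide (n = 6) || decide (n = 10) || decide (n = 730)

theorem num9 (n : ℕ) (h4 : n % 4 = 2) (h2 : 2 < n) (hd : n * (n - 1) ∣ 42573600) : n = 6 ∨ n = 10 ∨ n = 730 := by
  have hle : n ≤ 6525 := by
    by_contra hgt
    have h4 := Nat.le_of_dvd (by norm_num) hd
    have : 6526 * 6525 ≤ n * (n - 1) := Nat.mul_le_mul (by omega) (by omega)
    omega
  have key : ∀ i : Fin 81, ∀ j : Fin 81, chk (81 * i.1 + j.1) = true := by decide +kernel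
  have h5 := key ⟨n / 81, by omega⟩ ⟨n % 81, Nat.mod_lt _ (by norm_num)⟩
  rw [Nat.div_add_mod] at h5
  simp only [chk, Bool.or_eq_true, Bool.not_eq_true', Bool.and_eq_false_iff, decide_eq_false_iff_not, decide_eq_true_eq] at h5
  rcases h5 with ((((h5 | h5) | h5) | h5) | h5) | h5
  · exact absurd h4 h5
  · exact absurd h2 h5
  · exact absurd (Nat.mod_eq_zero_of_dvd hd) h5
  · exact Or.inl h5
  · exact Or.inr (Or.inl h5)
  · exact Or.inr (Or.inr h5)

theorem ident {M : Type*} [Group M] [Finite M] [IsSimpleGroup M] (hM : ¬ IsMulCommutative M) {Ω : Type*}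
    [MulAction M Ω] [Finite Ω] [FaithfulSMul M Ω] (h : Act M Ω) (hn2 : 2 < Nat.card Ω)
    (hcv : ∀ z : M, z * z = 1 → 2 < ({x : Ω | z • x = x} : Set Ω).ncard → CenV (Subgroup.zpowers z) Ω)
    {F : Type} [Field F] [Fintype F] {q : ℕ}
    (hF : Fintype.card F = q ^ 2) (hq : Odd q) (e : M ≃* PSU 3 F q) : Concl M (Nat.card Ω) := by
  have h2q : 2 ≤ q := two_le hF
  have hq3 : 2 < q := by
    rcases hq with ⟨m, hm⟩; omega
  right; right
  refine ⟨F, inferInstance, inferInstance, q, hF, hq3, ?_, ⟨e⟩⟩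
  by_cases hq9 : q = 9
  · subst hq9
    have hc := Cfsg.Agent.HKS.EndOrd.card_psu_three (F := F) (t := 8) hF
    rw [← Nat.card_congr e.toEquiv] at hc
    norm_num at hc
    have h1 := h.dvd hn2
    have h3 := dvd_factorial (M := M) (Ω := Ω)
    rw [hc] at h1 h3
    rcases num9 _ h.mod hn2 h1 with h4 | h4 | h4
    · exfalso; rw [h4] at h3; revert h3; decide +kernel
    · exfalso; rw [h4] at h3; revert h3; decide +kernel
    · exact h4
  · set f : SU 3 F q →* M :=
      e.symm.toMonoidHom.comp (Cfsg.Agent.ClassicalGeometry.PSUAutBasic.pr 3 F q) with hf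
    have hfs : Function.Surjective f :=
      e.symm.surjective.comp Cfsg.Agent.ClassicalGeometry.PSUAutBasic.pr_surjective
    have hfker : ∀ x, f x = 1 → x ∈ Subgroup.center (SU 3 F q) := by
      intro x hx
      rw [← Cfsg.Agent.ClassicalGeometry.PSUAutBasic.pr_eq_one_iff]
      exact (map_eq_one_iff _ e.symm.injective).1 hx
    have hf3 : ∀ x, f x = 1 → x ^ 3 = 1 := by
      intro x hx
      rw [pow_succ, pow_two]
      exact center_three hF x (hfker x hx)
    have h1 : @Act (SU 3 F q) Ω _ (MulAction.compHom Ω f) := h.comp f hfs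
    have hzz : f (zu hF) * f (zu hF) = 1 := by rw [← map_mul, zu_sq, map_one]
    have h3 : 2 < ({x : Ω | f (zu hF) • x = x} : Set Ω).ncard →
        @CenV (SU 3 F q) _ (Subgroup.zpowers (zu hF)) Ω (MulAction.compHom Ω f) :=
      fun h2 => CenV.comp f hf3 (hcv _ hzz h2)
    have h4 := h.fix_invol hM hzz
    let _ := MulAction.compHom Ω f
    refine card_eq hF hq hq9 h1 h3 h4 ?_
    intro g hg
    apply hfker
    apply FaithfulSMul.eq_of_smul_eq_smul (α := Ω)
    intro a
    rw [one_smul]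
    exact hg a

end Cfsg.Agent.H358.U3
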